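import Cfsg.Agent.L43.Mod
import Cfsg.Agent.Loc3.Tools5

/-! Involutions and elements of order four in a centraliser of shape `3^{1+4} : SL₂(3)`. -/

set_option autoImplicit false
set_option maxRecDepth 100000
set_option synthInstance.maxHeartbeats 400000
set_option synthInstance.maxSize 4000

namespace Cfsg.Agent.L43

open Subgroup Cfsg Cfsg.Agent.PLocal Cfsg.Agent.PLocal.Amb Cfsg.Agent.Loc3
open Cfsg.Agent.G23.Am (M2 card_pow one_of_sq mem_of_sq le_of_three mf2)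
open Cfsg.Agent.He5 (inv_self)
open scoped commutatorElement

theorem m1 : ∀ x : M2, x.det = 1 → x * x = 1 → x = 1 ∨ x = -1 := by decide +kernel

theorem m2 : ∀ x : M2, x.det = 1 → x ^ 3 = 1 → ∀ w : M2, w.det = 1 → w ^ 3 = 1 → (w * x) ^ 3 = 1 →
    (w * (x * x)) ^ 3 = 1 → w * x * (w * w) * (x * x) = 1 ∧
      (x = 1 ∨ w = 1 ∨ w * x = 1 ∨ w * (x * x) = 1) := by decide +kernel

theorem m3 : ∀ x : M2, x.det = 1 → x ^ 3 = 1 → x ≠ 1 → ∃ m : M2, m.det = 1 ∧ m * m = -1 ∧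
    (x * m) ^ 3 = 1 ∧ ∀ w : M2, w * w = -1 → (x * w) ^ 3 = 1 →
      w = m ∨ w = x * m * (x * x) ∨ w = x * x * m * x := by decide +kernel

variable {G : Type*} [Group G]

theorem braid {a b : G} (a2 : a * a = 1) (b2 : b * b = 1) (c : (a * b) ^ 3 = 1) :
    b * a * b = a * b * a := by
  rw [← mul_inv_eq_one, ← inv_eq_one, ← c]
  simp only [mul_inv_rev, inv_inv, inv_self a2, inv_self b2, pow_succ, pow_zero, one_mul, mul_assoc]

theorem fix_one {v t x : G} (v3 : v ^ 3 = 1) (e : t * v * t⁻¹ = v⁻¹) (hx : x ∈ zpowers v)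
    (c : Commute t x) : x = 1 := by
  obtain ⟨k, rfl⟩ := hx
  refine one_of_sq (k := 1) (by rw [← zpow_natCast, ← zpow_mul, mul_comm, zpow_mul, zpow_natCast, v3,
    one_zpow]) (mul_eq_one_iff_eq_inv.2 ?_)
  rw [← inv_zpow, ← e, conj_zpow, conj_of_comm c]

theorem fixc {t y : G} (t2 : t * t = 1) (u3 : (y⁻¹ * (t * y * t⁻¹)) ^ 3 = 1) :
    Commute t (y * (y⁻¹ * (t * y * t⁻¹))⁻¹) := by
  have e : t * (y⁻¹ * (t * y * t⁻¹)) * t⁻¹ = (y⁻¹ * (t * y * t⁻¹))⁻¹ := by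
    rw [← conj_mul, ← conj_inv, show t * (t * y * t⁻¹) * t⁻¹ = t * t * y * (t * t)⁻¹ by group, t2]
    group
  refine comm_of_conj ?_
  rw [← conj_mul, ← conj_inv, e, inv_inv, inv_eq_sq u3, ← mul_assoc y, mul_inv_cancel_left]

namespace Ex

variable {z v : G} {Q Q' : Subgroup G} {π π' : G → M2} (h : Ex z Q π) {a b g p q x y w n t r : G}
include h

theorem conj (g : G) : Ex (g * z * g⁻¹) cj(g, Q) fun x => π (g⁻¹ * x * g) := by
  have c : ∀ {x}, Commute x (g * z * g⁻¹) → Commute (g⁻¹ * x * g) z := fun a => by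
    simpa [mul_assoc] using Commute.cj a g⁻¹
  have zz : zpowers (g * z * g⁻¹) = cj(g, zpowers z) := (MonoidHom.map_zpowers (MulAut.conj g).toMonoidHom z).symm
  refine ⟨⟨by rw [conj_pow, h.z3]; simp, mt conj_eq_one_iff.1 h.z1, conj_mem_cj g h.zQ,
    by rw [card_cj, h.cQ], by rw [centralizer_singleton_conj, card_cj, h.cC], ?_, ?_,
    fun x a => zz ▸ mem_cj.2 (h.cen _ fun q b => ?_), ?_, ?_, fun a b => ?_, fun a => ?_,
    fun a => h.det (c a), fun m a => ?_⟩, fun {x q} a b d => zz ▸ mem_cj.2 ?_⟩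
  · rintro _ ⟨q, a, rfl⟩
    rw [← map_pow, h.ex a, map_one]
  · rintro _ _ ⟨p, a, rfl⟩ ⟨q, b, rfl⟩
    exact zz ▸ ⟨_, h.cm a b, map_commutatorElement _ _ _⟩
  · simpa [mul_assoc] using Commute.cj (a _ (conj_mem_cj g b)) g⁻¹
  · rintro _ ⟨q, a, rfl⟩
    exact Commute.cj (h.cz a) g
  · rw [zz, normalizer_cj, normalizer_cj]
    exact cj_mono g h.nQ
  · rw [← h.mul (c a) (c b)]
    congr 1
    group
  · rw [h.ker (c a), mem_cj]
  · obtain ⟨x, b, rfl⟩ := h.surj m a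
    exact ⟨_, Commute.cj b g, by simp [mul_assoc]⟩
  · simpa [mul_assoc] using h.inv (c a) b (mem_cj.1 d)

theorem inv' : Ex z⁻¹ Q π := by
  refine ⟨⟨by rw [inv_pow, h.z3, inv_one], inv_ne_one.2 h.z1, inv_mem h.zQ, h.cQ, ?_, h.ex, ?_, ?_,
    ?_, ?_, ?_, ?_, ?_, ?_⟩, ?_⟩ <;>
    simp only [zpowers_inv, Commute.inv_right_iff, ← Amb.centralizer_zpowers]
  exacts [Amb.centralizer_zpowers z ▸ h.cC, h.cm, h.cen, h.cz, h.nQ, h.mul, h.ker, h.det, h.surj, h.inv]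

theorem of_mem (hx : x ∈ zpowers z) (x1 : x ≠ 1) : Ex x Q π := by
  rcases (mem_zpowers_three h.z3).1 hx with e | rfl | rfl
  exacts [absurd e x1, h, h.inv']

theorem of_conj (c : IsConj z v) : ∃ Q' π', Ex v Q' π' := by
  obtain ⟨g, rfl⟩ := isConj_iff.1 c
  exact ⟨_, _, h.conj g⟩

theorem pQ : IsPGroup 3 Q := isPGroup_iff.2 fun _ a => ⟨1, h.ex a⟩

theorem cQz (ht : Commute t z) (e : π t = -1) (hx : x ∈ Q) (c : Commute t x) : x ∈ zpowers z :=
  mem_of_sq (k := 1) (h.ex hx) (conj_of_comm c ▸ h.inv ht e hx :)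

theorem neg (hg : Commute g z) (g2 : g * g = 1) (g1 : g ≠ 1) : π g = -1 :=
  (m1 _ (h.det hg) (by rw [← h.mul hg hg, g2, h.one])).resolve_left fun e =>
    g1 (one_of_sq (k := 1) (h.ex ((h.ker hg).1 e)) g2)

theorem ne1 (e : π t = -1) : t ≠ 1 := by
  rintro rfl
  exact absurd (h.one.symm.trans e) (by decide)

theorem pinv (hg : Commute g z) (g3 : g ^ 3 = 1) : π g⁻¹ = π g * π g := by
  rw [inv_eq_sq g3, h.mul hg hg]

theorem m3' (hx : x ∈ Q') (hw : w ∈ Q') (h' : Ex v Q' π') (cx : Commute x z) (cw : Commute w z) :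
    ⁅w, x⁆ ∈ Q ∧ (x ∈ Q ∨ ∃ u ∈ zpowers x, w * u ∈ Q) := by
  have p : ∀ {g}, g ∈ Q' → Commute g z → π g ^ 3 = 1 := fun a b => by rw [← h.pow b, h'.ex a, h.one]
  obtain ⟨a, b⟩ := m2 _ (h.det cx) (p hx cx) _ (h.det cw) (p hw cw)
    (h.mul cw cx ▸ p (mul_mem hw hx) (cw.mul_left cx)) (by
      rw [← h.mul cx cx, ← h.mul cw (cx.mul_left cx)]
      exact p (mul_mem hw (mul_mem hx hx)) (cw.mul_left (cx.mul_left cx)))
  have c := (cw.mul_left cx).mul_left cw.inv_left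
  refine ⟨(h.ker (c.mul_left cx.inv_left)).1 ?_, ?_⟩
  · rw [h.mul c cx.inv_left, h.mul (cw.mul_left cx) cw.inv_left, h.mul cw cx,
      h.pinv cx (h'.ex hx), h.pinv cw (h'.ex hw), a]
  rw [← h.mul cx cx, ← h.mul cw cx, ← h.mul cw (cx.mul_left cx), h.ker cx, h.ker cw,
    h.ker (cw.mul_left cx), h.ker (cw.mul_left (cx.mul_left cx))] at b
  rcases b with b | b | b | b
  exacts [Or.inl b, Or.inr ⟨1, one_mem _, by simpa⟩, Or.inr ⟨x, mem_zpowers x, b⟩,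
    Or.inr ⟨_, mul_mem (mem_zpowers x) (mem_zpowers x), b⟩]

theorem uniq (ht : Commute t z) (e : π t = -1) (ha : Commute a z) (hb : Commute b z)
    (az : Commute t a) (bz : Commute t b) (a4 : a ^ 4 = 1) (b4 : b ^ 4 = 1) (f : π a = π b) :
    a = b := by
  have m := h.cQz ht e (h.eq_of ha hb f) (az.inv_right.mul_right bz)
  have c : Commute a (a⁻¹ * b) := by
    obtain ⟨k, e⟩ := m
    exact e ▸ ha.zpow_right k
  rw [← mul_inv_cancel_left a b, c.mul_pow, a4, pow_succ, h.ex (h.ZQ m), one_mul, one_mul] at b4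
  exact inv_mul_eq_one.1 b4

theorem invI (c : Commute t z) (f : π t = -1) (hv : v ∈ Q) :
    t * (v * (v * (t * v * t⁻¹))) * t⁻¹ = (v * (v * (t * v * t⁻¹)))⁻¹ := by
  obtain ⟨i, j⟩ := h.inv c f hv
  have j' : t * v * t⁻¹ = v⁻¹ * z ^ i := by rw [eq_inv_mul_iff_mul_eq]; exact j.symm
  rw [← show z ^ i = _ from j, ← conj_mul, j', conj_of_comm (c.zpow_right i), mul_assoc,
    ← inv_eq_sq (h.ex (zpow_mem h.zQ i)), ← mul_inv_rev, ((h.cz hv).zpow_right i).eq]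

theorem uq (c : Commute t z) (hp : p ∈ Q) (tp : t * p * t⁻¹ = p⁻¹) (tq : t * q * t⁻¹ = q⁻¹)
    (e : p⁻¹ * q ∈ zpowers z) : p = q := by
  have a := conj_of_comm (h.cZ' hp (inv_mem e))
  obtain ⟨k, f⟩ := id e
  have b : Commute t (p⁻¹ * q) := f ▸ c.zpow_right k
  refine inv_mul_eq_one.1 (one_of_sq (k := 1) (h.ex (h.ZQ e)) (mul_eq_one_iff_eq_inv.2 ?_))
  have d := conj_of_comm b
  rw [← conj_mul, ← conj_inv, tp, tq] at d
  rw [← a]
  exact d.symm.trans (by group)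

theorem sq4 (t2 : t * t = 1) (a : w * w = t) : w⁻¹ = t * w ∧ w ^ 4 = 1 ∧ Commute t w :=
  have b : w ^ 4 = 1 := by rw [show 4 = 2 * 2 from rfl, pow_mul, pow_two, pow_two, a, t2]
  ⟨by rw [← a, inv_eq_iff_mul_eq_one, ← b]; simp [pow_succ, mul_assoc], b,
    a ▸ (Commute.refl w).mul_left (Commute.refl w)⟩

theorem cube (ht : Commute t z) (e : π t = -1) (t2 : t * t = 1) (hn : Commute n z) (n2 : n * n = t)
    (hx : Commute x z) (x3 : x ^ 3 = 1) (xz : Commute t x) (f : (π x * π n) ^ 3 = 1) :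
    (x * n) ^ 3 = 1 := by
  have p3 : π x ^ 3 = 1 := by rw [← h.pow hx, x3, h.one]
  obtain ⟨f1, f2⟩ := mf2 _ (by rw [← h.mul hn hn, n2, e]) _ p3 f
  have xi := inv_eq_sq x3
  have sq := fun {w} => h.sq4 (w := w) t2
  have cj : ∀ g, Commute t g → g * n * g⁻¹ * (g * n * g⁻¹) = t := fun g a => by
    rw [conj_mul, n2, conj_of_comm a.symm]
  have a1 := cj x xz
  have a2 := cj x⁻¹ xz.inv_right
  have m1 := (hx.mul_left hn).mul_left hx.inv_left
  have m2 := (hx.inv_left.mul_left hn).mul_left hx.inv_left.inv_left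
  have p1 : π (x * n * x⁻¹) = π x * π n * (π x * π x) := by
    rw [h.mul (hx.mul_left hn) hx.inv_left, h.mul hx hn, h.pinv hx x3]
  have p2 : π (x⁻¹ * n * x⁻¹⁻¹) = π x * π x * π n * π x := by
    rw [inv_inv, h.mul (hx.inv_left.mul_left hn) hx, h.mul hx.inv_left hn, h.pinv hx x3]
  have u : (x * n) ^ 3 = x * n * x⁻¹ * (x⁻¹ * n * x⁻¹⁻¹) * n := by
    rw [inv_inv, mul_assoc (x * n), ← mul_assoc x⁻¹, ← mul_assoc x⁻¹,
      show x⁻¹ * x⁻¹ = x by rw [← mul_inv_rev, ← xi, inv_inv]]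
    simp [pow_succ, mul_assoc]
  generalize x * n * x⁻¹ = r at *
  generalize x⁻¹ * n * x⁻¹⁻¹ = s at *
  have u1 : r⁻¹ = s * r * s⁻¹ := h.uniq ht e m1.inv_left ((m2.mul_left m1).mul_left m2.inv_left)
    (sq a1).2.2.inv_right (((sq a2).2.2.mul_right (sq a1).2.2).mul_right (sq a2).2.2.inv_right)
    (by rw [inv_pow, (sq a1).2.1, inv_one]) (by rw [conj_pow, (sq a1).2.1]; simp)
    (by rw [(sq a1).1, (sq a2).1, h.mul ht m1, h.mul (m2.mul_left m1) (ht.mul_left m2), h.mul m2 m1,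
      h.mul ht m2, e, p1, p2, f1])
  have u2 : r * s * (r * s) = t := by
    rw [← a2, show r * s * (r * s) = r * (s * r * s⁻¹) * (s * s) by group, ← u1, mul_inv_cancel, one_mul]
  rw [u, ← h.uniq ht e hn.inv_left (m1.mul_left m2) (sq n2).2.2.inv_right (sq u2).2.2
    (by rw [inv_pow, (sq n2).2.1, inv_one]) (sq u2).2.1
    (by rw [(sq n2).1, h.mul ht hn, h.mul m1 m2, e, p1, p2, f2]), inv_mul_cancel]

variable [Finite G]

theorem zmem (h' : Ex v Q' π') (hv : v ∈ Q) (v1 : v ∉ zpowers z) : z ∈ Q' ∧ z ∉ zpowers v := by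
  obtain ⟨p, a, q, b, c, d, e⟩ := h.nab hv v1
  refine ⟨zpowers_le.2 (h'.m3' b a h d c).1 ((zp h.z3 (h.cm a b)
    (mt commutatorElement_eq_one_iff_commute.1 e)).ge (mem_zpowers z)), fun f => v1 ?_⟩
  exact (zp h'.z3 f h.z1).ge (mem_zpowers v)

theorem ext (hv : v ∈ Q) (v1 : v ∉ zpowers z) :
    ∃ t, Commute t z ∧ π t = -1 ∧ t * t = 1 ∧ t * v * t⁻¹ = v⁻¹ := by
  obtain ⟨a, ha, e⟩ := h.surj (-1) (by decide)
  have c := ha.pow_left 3
  have f : π (a ^ 3) = -1 := by rw [h.pow ha, e]; decide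
  have t2 : a ^ 3 * a ^ 3 = 1 := by
    rw [← (Commute.refl a).mul_pow, h.ex ((h.ker (ha.mul_left ha)).1 (by simp [h.mul ha ha, e]))]
  generalize a ^ 3 = t at *
  have m := h.inv c f hv
  obtain ⟨q, hq, k⟩ := h.exc' hv v1 m
  have d := ((h.cz hq).inv_left.mul_left c).mul_left (h.cz hq).inv_left.inv_left
  have s := X32.conj_sq (g := q⁻¹) t2
  refine ⟨_, d, h.neg d s (mt conj_eq_one_iff.1 (h.ne1 f)), s, ?_⟩
  have l := h.invI c f hv
  rw [← k] at l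
  rw [show q⁻¹ * t * q⁻¹⁻¹ * v * (q⁻¹ * t * q⁻¹⁻¹)⁻¹ = q⁻¹ * (t * (q * v * q⁻¹) * t⁻¹) * q by group, l]
  group

theorem lift (ht : Commute t z) (e : π t = -1) (t2 : t * t = 1) {m : M2} (hm : m.det = 1) :
    ∃ g, Commute g z ∧ Commute g t ∧ π g = m := by
  obtain ⟨a, ha, rfl⟩ := h.surj m hm
  have c := (ha.mul_left ht).mul_left ha.inv_left
  obtain ⟨k, b, d⟩ := frat2 (g := a) h.pQ t2 ((h.ker (ht.mul_left c)).1 (by
    rw [h.mul ht c, e, h.neg c (X32.conj_sq t2) (mt conj_eq_one_iff.1 (h.ne1 e))]; simp))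
  exact ⟨_, (h.cz b).mul_left ha, d, by rw [h.mul (h.cz b) ha, (h.ker (h.cz b)).2 b, one_mul]⟩

theorem exn (ht : Commute t z) (e : π t = -1) (t2 : t * t = 1) (hy : Commute y z) (y3 : y ^ 3 = 1)
    (yQ : y ∉ Q) (ty : Commute t y) (rz : r * z * r⁻¹ = z⁻¹) (tr : Commute t r) (r2 : r * r = 1)
    (ry : r * y * r⁻¹ = y⁻¹) :
    ∃ n, Commute n z ∧ n * n = t ∧ (y * n) ^ 3 = 1 ∧ r * n * r⁻¹ = n⁻¹ := by
  obtain ⟨m, a, b, c, d⟩ := m3 _ (h.det hy) (by rw [← h.pow hy, y3, h.one]) (mt (h.ker hy).1 yQ)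
  have m4 : m ^ 4 = 1 := by rw [show 4 = 2 * 2 from rfl, pow_mul, pow_two, pow_two, b]; simp
  obtain ⟨g, hg, gz, rfl⟩ := h.lift ht e t2 a
  have g4 := h.ex (h.ZQ (h.cQz ht e ((h.ker (hg.pow_left 4)).1 (by rw [h.pow hg, m4]))
    (gz.symm.pow_right 4)))
  have n4 : (g ^ 9) ^ 4 = 1 := by
    rw [← pow_mul, show 9 * 4 = 4 * 3 * 3 from rfl, pow_mul, pow_mul, g4, one_pow]
  have pn : π (g ^ 9) = π g := by
    rw [h.pow hg, show 9 = 4 * 2 + 1 from rfl, pow_succ, pow_mul, m4, one_pow, one_mul]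
  have hi := hg.pow_left 9
  have it := gz.symm.pow_right 9
  rw [← pn] at b c d
  generalize g ^ 9 = i at *
  have i2 : i * i = t := (h.uniq ht e ht (hi.mul_left hi) (Commute.refl t) (it.mul_right it)
    (by rw [show 4 = 2 * 2 from rfl, pow_mul, pow_two t, t2, one_pow])
    (by rw [(Commute.refl i).mul_pow, n4, mul_one]) (by rw [h.mul hi hi, b, e])).symm
  have i3 := h.cube ht e t2 hi i2 hy y3 ty c
  have j1 : Commute (r * i⁻¹ * r⁻¹) z := by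
    simpa only [rz, Commute.inv_right_iff] using Commute.cj hi.inv_left r
  have j2 : r * i⁻¹ * r⁻¹ * (r * i⁻¹ * r⁻¹) = t := by
    rw [conj_mul, ← mul_inv_rev, i2, inv_self t2, conj_of_comm tr.symm]
  have j3 : (y * (r * i⁻¹ * r⁻¹)) ^ 3 = 1 := by
    rw [← inv_inv y, ← ry, conj_inv, conj_mul, conj_pow, ← mul_inv_rev, inv_pow,
      show i * y = y⁻¹ * (y * i) * y⁻¹⁻¹ by group, conj_pow, i3]
    simp
  have k : ∀ u, Commute u y → Commute u z → Commute t u → r * u * r⁻¹ = u⁻¹ → u ^ 3 = 1 →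
      π (r * i⁻¹ * r⁻¹) = π u * π i * (π u * π u) →
      ∃ n, Commute n z ∧ n * n = t ∧ (y * n) ^ 3 = 1 ∧ r * n * r⁻¹ = n⁻¹ := fun u a b c d u3 f => by
    have l := (b.mul_left hi).mul_left b.inv_left
    have o := h.uniq ht e j1 l (h.sq4 t2 j2).2.2 ((c.mul_right it).mul_right c.inv_right)
      (h.sq4 t2 j2).2.1 (by rw [conj_pow, n4]; simp)
      (by rw [f, h.mul (b.mul_left hi) b.inv_left, h.mul b hi, h.pinv b u3])
    refine ⟨u⁻¹ * i * u⁻¹⁻¹, (b.inv_left.mul_left hi).mul_left b.inv_left.inv_left, by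
      rw [conj_mul, i2, conj_of_comm c.symm.inv_left], by
      rw [← conj_of_comm a.inv_left, conj_mul, conj_pow, i3]; simp, ?_⟩
    rw [← conj_mul, ← conj_mul, ← conj_inv, ← conj_inv, ← conj_inv, d, ← inv_inv (r * i * r⁻¹),
      conj_inv, o, inv_inv, ← mul_inv_eq_one, inv_inv,
      show u * (u * i * u⁻¹)⁻¹ * u⁻¹ * (u⁻¹ * i * u) = u * (u * (i⁻¹ * (u ^ 3)⁻¹ * i) * u) by group, u3]
    simpa [pow_succ, mul_assoc] using u3
  rcases d _ (by rw [← h.mul j1 j1, j2, e]) (by rw [← h.mul hy j1, ← h.pow (hy.mul_left j1), j3, h.one])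
    with f | f | f
  · exact k 1 (by simp) (by simp) (by simp) (by simp) (by simp) (by simp [f, h.one])
  · exact k y (Commute.refl y) hy ty ry y3 f
  · exact k y⁻¹ (Commute.refl y).inv_left hy.inv_left ty.inv_right (by rw [← conj_inv, ry])
      (by rw [inv_pow, y3, inv_one]) (by
        rw [f, ← h.mul hy.inv_left hy.inv_left, ← mul_inv_rev, ← inv_eq_sq y3, inv_inv, h.pinv hy y3])

end Ex

end Cfsg.Agent.L43
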