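import Cfsg.Agent.U43.Cert

set_option autoImplicit false
set_option Elab.async false
set_option maxRecDepth 100000

namespace Cfsg.Agent.L43

open Cfsg.Agent.Comp.BN

def PX : Pres := ⟨[1, 0, 3, 2, 4],
  [[0, 0, 0],
   [2, 2, 2],
   [4, 0, 4, 0],
   [4, 2, 4, 3],
   [2, 0, 2, 1, 3, 0, 3, 1]]⟩

namespace A2
noncomputable def m0_0 : ℕ := nat_lit 0xfaeaaaa80000000000000000

noncomputable def m0_1 : ℕ := nat_lit 0xba4a8b95d494000000000000baeb04b272c8

noncomputable def m0_2 : ℕ := nat_lit 0xe8b96d000000361aea000000148351000000019dba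

noncomputable def m0_3 : ℕ := nat_lit 0x20f0005da000e1400056200001000095e000057000793

noncomputable def m0_4 : ℕ := nat_lit 0x2a00f02a00b02e00a02502701201c007011018008036009

noncomputable def m0_5 : ℕ := nat_lit 0x801810021801031020800841c51011010c70061401c6140

noncomputable def m0_6 : ℕ := nat_lit 0x200009000208000000200240000000000000000000000200

noncomputable def m0_7 : ℕ := nat_lit 0x402012002490010080402482000000000000010000010402

noncomputable def m0_8 : ℕ := nat_lit 0x208208209208008248041001008240209201240201241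

noncomputable def m0_9 : ℕ := nat_lit 0x180080086100002002004082000000000000004000084182

noncomputable def m0_10 : ℕ := nat_lit 0x2c03801a01e00400a03201200800202201802802401c

noncomputable def m0_11 : ℕ := nat_lit 0x122000b6200002e000418000050000310000006000622

noncomputable def m0_12 : ℕ := nat_lit 0x60bbcc000000758524000000068e00000000058934

noncomputable def m0_13 : ℕ := nat_lit 0x808a813c84d0000000000000baef45f67008

noncomputable def m0_14 : ℕ := nat_lit 0xfaeaaaa80000000000000000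

noncomputable def net0 : Net := (.cons 96 m0_0 (.cons 48 m0_1 (.cons 24 m0_2 (.cons 12 m0_3 (.cons 6 m0_4 (.cons 3 m0_5 (.cons 1 m0_6 (.cons 1 m0_7 (.cons 1 m0_8 (.cons 3 m0_9 (.cons 6 m0_10 (.cons 12 m0_11 (.cons 24 m0_12 (.cons 48 m0_13 (.cons 96 m0_14 .nil)))))))))))))))

theorem ok0 : Net.ok 192 net0 = true :=
  by decide +kernel

noncomputable def net1 : Net := (.cons 96 m0_14 (.cons 48 m0_13 (.cons 24 m0_12 (.cons 12 m0_11 (.cons 6 m0_10 (.cons 3 m0_9 (.cons 1 m0_8 (.cons 1 m0_7 (.cons 1 m0_6 (.cons 3 m0_5 (.cons 6 m0_4 (.cons 12 m0_3 (.cons 24 m0_2 (.cons 48 m0_1 (.cons 96 m0_0 .nil)))))))))))))))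

theorem ok1 : Net.ok 192 net1 = true :=
  by decide +kernel

noncomputable def m2_0 : ℕ := nat_lit 0x516ffffee0002491d000000

noncomputable def m2_1 : ℕ := nat_lit 0xf384b3b64800000000000000a1f81ff3cb00

noncomputable def m2_2 : ℕ := nat_lit 0xe006be000000e9a1000000000acee0000000f2ba00

noncomputable def m2_3 : ℕ := nat_lit 0x390005ac0009180006ec000020000fa0000fa0000a28

noncomputable def m2_4 : ℕ := nat_lit 0x1903303601601202400003002003602002800300002002e

noncomputable def m2_5 : ℕ := nat_lit 0x1830c60c6106047183106004107084004107184000184143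

noncomputable def m2_6 : ℕ := nat_lit 0x200000048200040000008000000000000000208000000041

noncomputable def m2_7 : ℕ := nat_lit 0x480410090402090010410482400090002080410000012482

noncomputable def m2_8 : ℕ := nat_lit 0x201048249049248241249001208249009208009040208200

noncomputable def m2_9 : ℕ := nat_lit 0x182084180004086002104004002000004002004000000186

noncomputable def m2_10 : ℕ := nat_lit 0x3002001802800002400003000002002001c022000004014

noncomputable def m2_11 : ℕ := nat_lit 0x70000f3800011c000688000000000ea0000f60000c10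

noncomputable def m2_12 : ℕ := nat_lit 0xd21478000000e190000000000b8ee0000000f43c00

noncomputable def m2_13 : ℕ := nat_lit 0xf3821fde580000000000000041b81ff38520

noncomputable def m2_14 : ℕ := nat_lit 0x516ffffdc4002493a000000

noncomputable def net2 : Net := (.cons 96 m2_0 (.cons 48 m2_1 (.cons 24 m2_2 (.cons 12 m2_3 (.cons 6 m2_4 (.cons 3 m2_5 (.cons 1 m2_6 (.cons 1 m2_7 (.cons 1 m2_8 (.cons 3 m2_9 (.cons 6 m2_10 (.cons 12 m2_11 (.cons 24 m2_12 (.cons 48 m2_13 (.cons 96 m2_14 .nil)))))))))))))))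

theorem ok2 : Net.ok 192 net2 = true :=
  by decide +kernel

noncomputable def net3 : Net := (.cons 96 m2_14 (.cons 48 m2_13 (.cons 24 m2_12 (.cons 12 m2_11 (.cons 6 m2_10 (.cons 3 m2_9 (.cons 1 m2_8 (.cons 1 m2_7 (.cons 1 m2_6 (.cons 3 m2_5 (.cons 6 m2_4 (.cons 12 m2_3 (.cons 24 m2_2 (.cons 48 m2_1 (.cons 96 m2_0 .nil)))))))))))))))

theorem ok3 : Net.ok 192 net3 = true :=
  by decide +kernel

noncomputable def m4_0 : ℕ := nat_lit 0x517f7dfb60001a650000000

noncomputable def m4_1 : ℕ := nat_lit 0xf2f31f6dbe0000000000000024a65b620010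

noncomputable def m4_2 : ℕ := nat_lit 0x4767660000009200c00000008f39580000002f7608

noncomputable def m4_3 : ℕ := nat_lit 0x51900087c000be0000d9600061c000a3a000df8000a4c

noncomputable def m4_4 : ℕ := nat_lit 0x3902d01f02303001401803903802d01200401e00803200c

noncomputable def m4_5 : ℕ := nat_lit 0x1810c60461431040060420431831c01061c6103046005105

noncomputable def m4_6 : ℕ := nat_lit 0x208208001048001001201000200208048041208208040208

noncomputable def m4_7 : ℕ := nat_lit 0x492490082492002402482402480412092482492492480492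

noncomputable def m4_8 : ℕ := nat_lit 0x201048248048201001041048200241248209201048040201

noncomputable def m4_9 : ℕ := nat_lit 0x186104100102004004180002180186106006104186000102

noncomputable def m4_10 : ℕ := nat_lit 0x3802c02000803001001803203803001000401e00803000c

noncomputable def m4_11 : ℕ := nat_lit 0x55c00087c000b20000d9600061c000a3a000df8000a4c

noncomputable def m4_12 : ℕ := nat_lit 0x4767660000009200c00000008f39580000002c7608

noncomputable def m4_13 : ℕ := nat_lit 0xf2f31f6dbe0000000000000024a65b620010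

noncomputable def m4_14 : ℕ := nat_lit 0x517f7dfb60001a650000000

noncomputable def net4 : Net := (.cons 96 m4_0 (.cons 48 m4_1 (.cons 24 m4_2 (.cons 12 m4_3 (.cons 6 m4_4 (.cons 3 m4_5 (.cons 1 m4_6 (.cons 1 m4_7 (.cons 1 m4_8 (.cons 3 m4_9 (.cons 6 m4_10 (.cons 12 m4_11 (.cons 24 m4_12 (.cons 48 m4_13 (.cons 96 m4_14 .nil)))))))))))))))

theorem ok4 : Net.ok 192 net4 = true :=
  by decide +kernel

noncomputable def nets : List Net := [net0, net1, net2, net3, net4]

noncomputable def act : Act := netAct' nets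
noncomputable def π : ℕ → Equiv.Perm ℕ := netPerm nets

theorem spec : act.Spec 192 π :=
  spec_fast (netAct_spec (AllP.forall (p := fun t => Net.ok 192 t = true) ⟨ok0, ok1, ok2, ok3, ok4, trivial⟩))

theorem out : ∀ k, 5 ≤ k → π k = 1 :=
  netPerm_out nets

theorem sat_inv_0 : invC Cfsg.Agent.L43.A2.act Cfsg.Agent.L43.PX.I 192 8 Cfsg.Agent.L43.PX.inv.length [0, 1, 2, 3, 4, 5, 6, 7] = true :=
  by decide +kernel

theorem sat_inv : ∀ k, Cfsg.Agent.L43.A2.π (Cfsg.Agent.L43.PX.I k) * Cfsg.Agent.L43.A2.π k = 1 :=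
  inv_of_checks Cfsg.Agent.L43.A2.spec (K := 8) (by decide) Cfsg.Agent.L43.A2.out [[0, 1, 2, 3, 4, 5, 6, 7]] (by decide) ⟨sat_inv_0, trivial⟩

theorem sat_rel_0_0 : relsC Cfsg.Agent.L43.A2.act Cfsg.Agent.L43.PX.I 192 8 [[0, 0, 0], [2, 2, 2], [4, 0, 4, 0], [4, 2, 4, 3], [2, 0, 2, 1, 3, 0, 3, 1]] [0, 1, 2, 3, 4, 5, 6, 7] = true :=
  by decide +kernel

theorem sat_rel_0 : ∀ r ∈ ([[0, 0, 0], [2, 2, 2], [4, 0, 4, 0], [4, 2, 4, 3], [2, 0, 2, 1, 3, 0, 3, 1]] : List (List ℕ)), ev Cfsg.Agent.L43.A2.π r = 1 :=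
  rels_of_checks Cfsg.Agent.L43.A2.spec (K := 8) (by decide) sat_inv _ [[0, 1, 2, 3, 4, 5, 6, 7]] (by decide) ⟨sat_rel_0_0, trivial⟩

theorem sat_rel : ∀ r ∈ ([[0, 0, 0], [2, 2, 2], [4, 0, 4, 0], [4, 2, 4, 3], [2, 0, 2, 1, 3, 0, 3, 1]] : List (List ℕ)), ev Cfsg.Agent.L43.A2.π r = 1 :=
  rels_join [[[0, 0, 0], [2, 2, 2], [4, 0, 4, 0], [4, 2, 4, 3], [2, 0, 2, 1, 3, 0, 3, 1]]] ⟨sat_rel_0, trivial⟩

theorem sat : Sat Cfsg.Agent.L43.PX Cfsg.Agent.L43.A2.π :=
  ⟨Cfsg.Agent.L43.A2.out, sat_inv, sat_rel⟩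

noncomputable def done_tr0 : ℕ := nat_lit 0x3fffffedb6db6db7ffffebebedb6db6db6db6db6a

noncomputable def done_tr1 : ℕ := nat_lit 0x924924924000014140924924925249224c

noncomputable def done_tr2 : ℕ := nat_lit 0x3ffffff6db6db6dbffaeaaaab6db6db6da4924db0

noncomputable def done_t0_0 : ℕ := nat_lit 0x3dc0803ffc86c06c030c3c3c0411f7dc7000007d9

noncomputable def done_t0_1 : ℕ := nat_lit 0x1064266a1b48ad1a95aa8ea2b4fac9a49b6db6924

noncomputable def done_t0_2 : ℕ := nat_lit 0x103c3e2e980f40f7fe04301c1b653643040000000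

noncomputable def done_t0_3 : ℕ := nat_lit 0x2fc3c1d165b01b000000000000000000000000000

noncomputable def done_t1_0 : ℕ := nat_lit 0x3dd3c3db2e40240003ffc0002083befbec0000ed9

noncomputable def done_t1_1 : ℕ := nat_lit 0x126e5a74f73d97bda6d4eb68f7f6c92c92db6d922

noncomputable def done_t1_2 : ℕ := nat_lit 0x1003c7c003f03f01efffc3c3db6d0610600000000

noncomputable def done_t1_3 : ℕ := nat_lit 0x2ffc3c1b6c06c06e1000000000000000000000000

noncomputable def done_t2_0 : ℕ := nat_lit 0x2aaaaa8000000002aadb77774000000003befb007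

noncomputable def done_t2_1 : ℕ := nat_lit 0x3ffffff6db6db6dbffaeaaaab6db6db6da4924db0

noncomputable def done_t2_2 : ℕ := nat_lit 0

noncomputable def done_t2_3 : ℕ := nat_lit 0

noncomputable def done_t3_0 : ℕ := nat_lit 0x15555540000000015575ddddc000000001f7df007

noncomputable def done_t3_1 : ℕ := nat_lit 0x3fffffedb6db6db7ffaeaaaaadb6db6db64924b68

noncomputable def done_t3_2 : ℕ := nat_lit 0

noncomputable def done_t3_3 : ℕ := nat_lit 0

noncomputable def done_t4_0 : ℕ := nat_lit 0x1b6db6db6c005155555b6db6db6db6db6df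

noncomputable def done_t4_1 : ℕ := nat_lit 0

noncomputable def done_t4_2 : ℕ := nat_lit 0

noncomputable def done_t4_3 : ℕ := nat_lit 0

noncomputable def doneC : TC := ⟨Cfsg.Agent.L43.PX, [], 162, 192, 8, 4, [done_tr0, done_tr1, done_tr2],
  [[done_t0_0, done_t0_1, done_t0_2, done_t0_3],
   [done_t1_0, done_t1_1, done_t1_2, done_t1_3],
   [done_t2_0, done_t2_1, done_t2_2, done_t2_3],
   [done_t3_0, done_t3_1, done_t3_2, done_t3_3],
   [done_t4_0, done_t4_1, done_t4_2, done_t4_3]]⟩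

theorem done_s : doneC.structC Cfsg.Agent.L43.A2.act = true :=
  by decide +kernel

theorem done_c0_0 : doneC.coverC Cfsg.Agent.L43.A2.act 0 true [(2, 1), (0, 0), (6, 1), (12, 1)] [] 0 (ones 162) = true :=
  by decide +kernel

theorem done_j0 : doneC.JustS Cfsg.Agent.L43.A2.π 0 (ones 162) :=
  TC.cover_step Cfsg.Agent.L43.A2.spec done_s (TC.justS_zero 0) done_c0_0

theorem done_c1_0 : doneC.coverC Cfsg.Agent.L43.A2.act 1 true [(2, 0), (1, 0), (7, 0)] [] 0 (ones 162) = true :=
  by decide +kernel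

theorem done_j1 : doneC.JustS Cfsg.Agent.L43.A2.π 1 (ones 162) :=
  TC.cover_step Cfsg.Agent.L43.A2.spec done_s (TC.justS_zero 1) done_c1_0

theorem done_c2_0 : doneC.coverC Cfsg.Agent.L43.A2.act 2 true [(8, 1), (3, 0), (9, 1)] [] 0 (ones 162) = true :=
  by decide +kernel

theorem done_j2 : doneC.JustS Cfsg.Agent.L43.A2.π 2 (ones 162) :=
  TC.cover_step Cfsg.Agent.L43.A2.spec done_s (TC.justS_zero 2) done_c2_0

theorem done_c3_0 : doneC.coverC Cfsg.Agent.L43.A2.act 3 true [(8, 0), (4, 0), (9, 3)] [] 0 (ones 162) = true :=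
  by decide +kernel

theorem done_j3 : doneC.JustS Cfsg.Agent.L43.A2.π 3 (ones 162) :=
  TC.cover_step Cfsg.Agent.L43.A2.spec done_s (TC.justS_zero 3) done_c3_0

theorem done_c4_0 : doneC.coverC Cfsg.Agent.L43.A2.act 4 true [(14, 0)] [] 0 (ones 162) = true :=
  by decide +kernel

theorem done_j4 : doneC.JustS Cfsg.Agent.L43.A2.π 4 (ones 162) :=
  TC.cover_step Cfsg.Agent.L43.A2.spec done_s (TC.justS_zero 4) done_c4_0

theorem done : doneC.Done Cfsg.Agent.L43.A2.π :=
  TC.done_of Cfsg.Agent.L43.A2.spec sat done_s ⟨done_j0, done_j1, done_j2, done_j3, done_j4, trivial⟩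

end A2

theorem bX : Bound PX 162 :=
  A2.done.bound_bot rfl

end Cfsg.Agent.L43
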