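import Cfsg.Agent.L43.Weyl
import Cfsg.Agent.L43.XCert
import Cfsg.Agent.G23.AmL
import Cfsg.Agent.A9.Model
import Cfsg.Agent.S3343

/-! Normalisers of the non-singular points of the Thompson subgroup. -/

set_option autoImplicit false
set_option maxRecDepth 100000
set_option synthInstance.maxHeartbeats 400000
set_option synthInstance.maxSize 4000

namespace Cfsg.Agent.L43

open Subgroup Cfsg Cfsg.Agent.PLocal Cfsg.Agent.PLocal.Amb Cfsg.Agent.Loc3 Cfsg.Agent.Comp
open Cfsg.Agent.G23.Am (M2 card_pow one_of_sq mem_of_sq cjk card_seg seg_le th_mem)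
open Cfsg.Agent.X32 (TG)
open Cfsg.Agent.X32.TG Cfsg.Agent.LES Cfsg.Agent.Loc3.Pr Equiv
open scoped commutatorElement

variable {G : Type*} [Group G] {φ : K →* G}

abbrev x0 : Perm (Fin 9) := swap 0 1 * swap 1 2 * swap 3 4 * swap 4 5 * swap 6 7 * swap 7 8
abbrev C0 := centralizer ({x0} : Set (Perm (Fin 9)))
abbrev r1 : Perm (Fin 9) := swap 0 3 * swap 3 6 * swap 1 4 * swap 4 7 * swap 2 5 * swap 5 8
abbrev a1 : Perm (Fin 9) := swap 6 7 * swap 7 8
abbrev s1 : Perm (Fin 9) := swap 0 3 * swap 1 4 * swap 2 5

theorem m0 : r1 ∈ C0 ∧ a1 ∈ C0 ∧ s1 ∈ C0 ∧ x0 ∈ C0 := pd!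

abbrev ρ0 : C0 := ⟨r1, m0.1⟩
abbrev a0 : C0 := ⟨a1, m0.2.1⟩
abbrev s0 : C0 := ⟨s1, m0.2.2.1⟩
abbrev z0 : C0 := ⟨x0, m0.2.2.2⟩

theorem card_C0 : Nat.card C0 = 162 := by
  have := Fact.mk Nat.prime_three
  have a := Perm.cycleType_of_pow_prime_eq_one (pd! : x0 ^ 3 = 1)
  have b := x0.sum_cycleType
  rw [a, Multiset.sum_replicate, (pd! : x0.support.card = 9), smul_eq_mul] at b
  rw [Perm.nat_card_centralizer, a, show x0.cycleType.card = 3 by omega]
  decide

theorem link0 : BN.Link PX (tup [ρ0, ρ0⁻¹, a0, a0⁻¹, s0]) := by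
  have k : ∀ {r a s : C0}, r * (r * r) = 1 ∧ a * (a * a) = 1 ∧ s * (r * (s * r)) = 1 ∧ s * s = 1 ∧
      s * (a * (s * a⁻¹)) = 1 ∧ a * (r * (a * (r⁻¹ * (a⁻¹ * (r * (a⁻¹ * r⁻¹)))))) = 1 →
      BN.Sat PX (tup [r, r⁻¹, a, a⁻¹, s]) := fun ⟨a, b, c, d, e, f⟩ => sat_tup le_rfl (fun k hk => by
    have : k < 5 := List.mem_range.1 hk
    interval_cases k <;> first | exact inv_mul_cancel _ | exact mul_inv_cancel _ | exact d)
    (BN.AllP.forall ⟨by simpa [tup] using a, by simpa [tup] using b, by simpa [tup] using c,
      by simpa [tup] using e, by simpa [tup] using f, trivial⟩)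
  refine X32.link_of_bound bX (k (by simp only [Subtype.ext_iff]; exact pd!))
    (eq_top_iff.2 fun ⟨σ, h⟩ _ => ?_) card_C0
  have m := fun k => mem_map_of_mem C0.subtype (BN.mem_gen (tup [ρ0, ρ0⁻¹, a0, a0⁻¹, s0]) k)
  suffices σ ∈ _ from (mem_map_iff_mem C0.subtype_injective).1 this
  have r : r1 ∈ _ := m 0
  have a : a1 ∈ _ := m 2
  have s : s1 ∈ _ := m 4
  generalize map C0.subtype _ = H at *
  have t : ∀ {g x}, g ∈ H → x ∈ [1, g, g⁻¹] → x ∈ H := fun a b => by
    simp only [List.mem_cons, List.not_mem_nil, or_false] at b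
    rcases b with rfl | rfl | rfl
    exacts [one_mem _, a, inv_mem a]
  have b := mul_mem (mul_mem r a) (inv_mem r)
  obtain ⟨i, hi, j, hj, e⟩ := (pd! : ∀ σ : Perm (Fin 9), Commute σ x0 → ∃ i ∈ [1, s1], ∃ j ∈ [1, r1, r1⁻¹],
    Commute (j * i * σ) x0 ∧ Commute (j * i * σ) a1 ∧ Commute (j * i * σ) (r1 * a1 * r1⁻¹) ∧
      (j * i * σ) ^ 3 = 1) σ (mem_cent.1 h)
  obtain ⟨k, hk, l, hl, e⟩ := (pd! : ∀ σ : Perm (Fin 9), Commute σ x0 → Commute σ a1 ∧
    Commute σ (r1 * a1 * r1⁻¹) ∧ σ ^ 3 = 1 → ∃ k ∈ [1, a1, a1⁻¹], ∃ l ∈ [1, r1 * a1 * r1⁻¹,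
      (r1 * a1 * r1⁻¹)⁻¹], l * k * σ ∈ [1, r1⁻¹ * a1 * r1, (r1⁻¹ * a1 * r1)⁻¹]) _ e.1 e.2
  refine (H.mul_mem_cancel_left (mul_mem (t r hj) ?_)).1 ((H.mul_mem_cancel_left
    (mul_mem (t b hl) (t a hk))).1 (t (mul_mem (mul_mem (inv_mem r) a) r) e))
  rcases List.mem_pair.1 hi with rfl | rfl
  exacts [one_mem _, s]

theorem inj0 {X : Type*} [Group X] {f : C0 →* X} (h : f z0 ≠ 1) : Function.Injective f := by
  refine (injective_iff_map_eq_one f).2 fun ⟨σ, a⟩ e => ?_
  have k : ∀ {τ}, f τ = 1 → τ.1 ∉ [x0, x0⁻¹] := fun {τ} b c => h (by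
    rcases List.mem_pair.1 c with d | d
    exacts [(Subtype.ext d : τ = z0) ▸ b, by rwa [(Subtype.ext d : τ = z0⁻¹), map_inv, inv_eq_one] at b])
  rcases (pd! : ∀ σ : Perm (Fin 9), Commute σ x0 → σ = 1 ∨ σ ∈ [x0, x0⁻¹] ∨
    r1 * σ * r1⁻¹ * σ⁻¹ ∈ [x0, x0⁻¹] ∨ ∃ j ∈ [ρ0, a0], r1 * (j.1 * σ * j.1⁻¹ * σ⁻¹) * r1⁻¹ *
      (j.1 * σ * j.1⁻¹ * σ⁻¹)⁻¹ ∈ [x0, x0⁻¹] ∨ ∃ i ∈ [ρ0, a0], r1 * (i.1 * (j.1 * σ * j.1⁻¹ * σ⁻¹) * i.1⁻¹ *
      (j.1 * σ * j.1⁻¹ * σ⁻¹)⁻¹) * r1⁻¹ * (i.1 * (j.1 * σ * j.1⁻¹ * σ⁻¹) * i.1⁻¹ *
      (j.1 * σ * j.1⁻¹ * σ⁻¹)⁻¹)⁻¹ ∈ [x0, x0⁻¹]) σ (mem_cent.1 a) with b | b | b | ⟨j, -, b | ⟨i, -, b⟩⟩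
  exacts [Subtype.ext b, absurd b (k e), absurd b (k (τ := ⁅ρ0, ⟨σ, a⟩⁆) (by simp [e])),
    absurd b (k (τ := ⁅ρ0, ⁅j, ⟨σ, a⟩⁆⁆) (by simp [e])),
    absurd b (k (τ := ⁅ρ0, ⁅i, ⁅j, ⟨σ, a⟩⁆⁆⁆) (by simp [e]))]

theorem nine {X : Type*} [Group X] {z u v : X} (ι : X ≃* Perm (Fin 9)) (e : centralizer {z} ≃* C0)
    (z3 : z ^ 3 = 1) (z1 : z ≠ 1) (u3 : u ^ 3 = 1) (c : IsConj u v) (uz : Commute u z)
    (vz : Commute v z) (n : ¬ Commute u v) : IsConj z u := by
  have k : ∀ (ι : X ≃* Perm (Fin 9)) a b, Commute a (ι z) → Commute b (ι z) → a * a = 1 → b * b = 1 →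
      Commute a b → a = 1 ∨ b = 1 ∨ a = b := fun ι a b ca cb a2 b2 ab => by
    have m : ∀ {a}, Commute a (ι z) → ι.symm a ∈ centralizer {z} := fun c =>
      mem_cent.2 (by simpa using c.map ι.symm)
    have s : ∀ {a} (c : Commute a (ι z)), a * a = 1 → (e ⟨_, m c⟩).1 * (e ⟨_, m c⟩).1 = 1 := fun c d => by
      rw [← coe_mul, ← map_mul, OneMemClass.coe_eq_one, e.map_eq_one_iff, Subtype.ext_iff]
      simp [← map_mul, d]
    simpa [Subtype.ext_iff, ← Subtype.ext_iff (p := (· ∈ C0))] using (pd! : ∀ σ : Perm (Fin 9),
      Commute σ x0 → σ * σ = 1 → ∀ τ, Commute τ x0 → τ * τ = 1 → Commute σ τ → σ = 1 ∨ τ = 1 ∨ σ = τ)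
      _ (mem_cent.1 (e ⟨_, m ca⟩).2) (s ca a2) _ (mem_cent.1 (e ⟨_, m cb⟩).2) (s cb b2)
      ((Commute.map (Subtype.ext (ab.map ι.symm).eq : Commute (⟨_, m ca⟩ : centralizer {z}) ⟨_, m cb⟩)
        e).map C0.subtype)
  have p3 : ∀ (ι : X ≃* Perm (Fin 9)) {x : X}, x ^ 3 = 1 → ι x ^ 3 = 1 := fun ι x a => by
    rw [← map_pow, a, map_one]
  have r : ∀ t : Perm (Fin 9), t ^ 3 = 1 → (ι z).support.card = t.support.card →
      ∃ ι : X ≃* Perm (Fin 9), ι z = t := fun t a b => by
    obtain ⟨g, d⟩ := isConj_iff.1 (isConj_of_supp Nat.prime_three (p3 ι z3) a b)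
    exact ⟨ι.trans (MulAut.conj g), d⟩
  obtain ⟨j, d⟩ := dvd_supp Nat.prime_three (p3 ι z3)
  have l : (ι z).support.card ≤ 9 := Finset.card_le_univ _
  have l0 : (ι z).support.card ≠ 0 := by simpa using z1
  rcases (by omega : j = 1 ∨ j = 2 ∨ j = 3) with rfl | rfl | rfl
  · obtain ⟨ι, d⟩ := r (swap 0 1 * swap 1 2) pd! (d.trans (Eq.symm pd!))
    exact absurd (k ι (swap 3 4) (swap 5 6) (d ▸ pd!) (d ▸ pd!) pd! pd! pd!) pd!
  · obtain ⟨ι, d⟩ := r (swap 0 1 * swap 1 2 * swap 3 4 * swap 4 5) pd! (d.trans (Eq.symm pd!))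
    exact absurd (k ι (swap 0 3 * swap 1 4 * swap 2 5) (swap 7 6) (d ▸ pd!) (d ▸ pd!) pd! pd! pd!) pd!
  obtain ⟨ι, d⟩ := r x0 pd! (d.trans (Eq.symm pd!))
  have v3 : v ^ 3 = 1 := by obtain ⟨g, rfl⟩ := isConj_iff.1 c; rw [conj_pow, u3]; simp
  have f : ∀ {w}, w ^ 3 = 1 → (ι w).support.card = 9 → IsConj z w := fun a b => by
    simpa [← d] using ι.symm.toMonoidHom.map_isConj (isConj_of_supp Nat.prime_three (σ := x0) pd!
      (p3 ι a) (Eq.trans pd! b.symm))
  rcases (pd! : ∀ σ : Perm (Fin 9), Commute σ x0 → σ ^ 3 = 1 → ∀ τ, Commute τ x0 → τ ^ 3 = 1 →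
    ¬ Commute σ τ → σ.support.card = 9 ∨ τ.support.card = 9) _ (d ▸ uz.map ι) (p3 ι u3) _ (d ▸ vz.map ι)
    (p3 ι v3) (fun a => n (by simpa using a.map ι.symm)) with a | a
  exacts [f u3 a, (f v3 a).trans c.symm]

theorem exists_PH.{u} {G : Type u} [Group G] [Finite G] (L : Subgroup G) :
    ∃ (X : Type u) (_ : Group X) (_ : Finite X) (π : G → X), Loc3.PH 𝐍[L] L π :=
  ⟨_, _, inferInstance, Loc3.PH.of_equiv le_normalizer (MulEquiv.refl _)⟩

/-- the Thompson subgroup -/
noncomputable abbrev sJ : Subgroup K := sS ⊓ centralizer {Y}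

theorem card_sJ : Nat.card sJ = 81 := (X32.card_sub (· ∈ sJ) fun _ => Iff.rfl).trans (by decide +kernel)

namespace Ch

variable (h : Ch φ) [Finite G] {g : G} {k : K}
include h

theorem nC (a : k ∈ sQ ∧ k ∉ [1, Z, Z⁻¹] ∧ ∀ y, Commute y Z → Commute y k → ∀ a ∈ sQ, Commute a k →
    ⁅y, a⁆ ≠ k ∧ ⁅y, a⁆ ≠ k⁻¹) : ¬ IsConj (φ Z) (φ k) := fun c => by
  obtain ⟨π, x⟩ := h.ex
  obtain ⟨Q', π', x'⟩ := x.of_conj c
  obtain ⟨-, -, y, b, -, -, -, -, -, -, -, -, yQ, yz, -, -, -, ⟨b, aQ, rfl⟩, aQ', ya⟩ :=
    x.exy x' (mem_map_of_mem φ a.1) (h.nzp a.2.1)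
  obtain ⟨y, rfl⟩ := h.cz yz
  obtain ⟨b1, b2⟩ := a.2.2 y (h.cm yz) (h.cm (x'.cz yQ)) b aQ (h.cm (x'.cz aQ'))
  rcases (mem_zpowers_three x'.z3).1 (x'.cm yQ aQ') with e | e | e
  exacts [ya (commutatorElement_eq_one_iff_commute.1 e), b1 (h.inj (by simpa using e)),
    b2 (h.inj (by simpa using e))]

theorem cW (c : Commute g (φ (V * B))) : g ∈ 𝐍[sJ.map φ] := by
  have w3 : φ (V * B) ^ 3 = 1 := by rw [← map_pow, (bd! : (V * B) ^ 3 = 1), map_one]
  have w1 := h.ne1 (bd! : V * B ≠ 1)
  obtain ⟨X, _, _, π, q⟩ := exists_PH (zpowers (φ (V * B)))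
  have nM := fun g => mem_norm_three (g := g) w3 w1
  have mM : ∀ {k}, k * (V * B) * k⁻¹ = V * B ∨ k * (V * B) * k⁻¹ = (V * B)⁻¹ ↔
      φ k ∈ 𝐍[zpowers (φ (V * B))] := by
    intro k; rw [nM, cjk rfl, ← map_inv, h.inj.eq_iff, h.inj.eq_iff]
  have mW : ∀ {k}, φ k ∈ zpowers (φ (V * B)) → k ∈ [1, V * B, (V * B)⁻¹] := by
    simp [mem_zpowers_three w3, ← map_inv, h.inj.eq_iff, map_eq_one_iff _ h.inj, -map_mul, -mul_inv_rev]
  have cM : ∀ {g}, Commute g (φ (V * B)) → g ∈ 𝐍[zpowers (φ (V * B))] := fun c =>
    (nM _).2 (Or.inl (conj_of_comm c))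
  have JM : sJ.map φ ≤ 𝐍[zpowers (φ (V * B))] := by
    rintro _ ⟨j, a, rfl⟩
    exact cM (((bd! : ∀ j ∈ sJ, Commute j (V * B)) j a).map φ)
  have wJ : zpowers (φ (V * B)) ≤ sJ.map φ := zpowers_le.2 (mem_map_of_mem φ bd!)
  have zM := JM (mem_map_of_mem φ (bd! : Z ∈ sJ))
  have yM := JM (mem_map_of_mem φ (bd! : Y ∈ sJ))
  have uM := mM.1 (Or.inl (bd! : A * C * (V * B) * (A * C)⁻¹ = V * B))
  generalize 𝐍[zpowers (φ (V * B))] = M at *
  have kc : ∀ {g}, g ∈ M → ∀ u ∈ [Z, A * C], φ u ∈ M → π g * π (φ Z) * (π g)⁻¹ = π (φ u) →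
      u = Z ∧ Commute g (φ Z) := fun {g} a u b d e => by
    rw [← q.map_conj a zM, q.eq_iff (mul_mem (mul_mem a zM) (inv_mem a)) d] at e
    obtain ⟨j, e1, e2⟩ : ∃ j ∈ [1, V * B, (V * B)⁻¹], g * φ Z * g⁻¹ * (φ u)⁻¹ = φ j := by
      simpa [-map_mul, -mul_inv_rev] using (mem_zpowers_three w3).1 e
    rw [mul_inv_eq_iff_eq_mul, ← map_mul] at e2
    obtain ⟨rfl, rfl⟩ := ((bd! : ∀ u ∈ [Z, A * C], ∀ j ∈ [1, V * B, (V * B)⁻¹], (u = Z ∧ j = 1) ∨
      j * u ∈ sQ ∧ j * u ∉ [1, Z, Z⁻¹] ∧ ∀ y, Commute y Z → Commute y (j * u) → ∀ a ∈ sQ,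
        Commute a (j * u) → ⁅y, a⁆ ≠ j * u ∧ ⁅y, a⁆ ≠ (j * u)⁻¹) u b j e1).resolve_right fun f =>
      h.nC f (isConj_iff.2 ⟨g, e2⟩)
    exact ⟨rfl, comm_of_conj (by rw [e2, one_mul])⟩
  obtain ⟨f0, e0⟩ := link_hom link0 (sat_tup (l := [A * C, (A * C)⁻¹, Y, Y⁻¹, T]) le_rfl bd! bd!)
  have e1 := fun i => show f0 (tup _ i) = tup _ i from by simpa only [BN.ev_cons, BN.ev_nil, mul_one] using e0 [i]
  have m0 : ∀ x, φ (f0 x) ∈ M := fun x => X32.range_le_of_gen (φ := φ.comp f0) link0.top (fun k hk => by
    rw [MonoidHom.comp_apply, e1, ← mM]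
    exact (bd! : ∀ k ∈ [A * C, (A * C)⁻¹, Y, Y⁻¹, T], k * (V * B) * k⁻¹ = V * B ∨
      k * (V * B) * k⁻¹ = (V * B)⁻¹) _ (by
        rw [tup, List.getD_eq_getElem _ _ (by exact hk)]; exact List.getElem_mem _)) x
  let f := q.hom.comp ((φ.comp f0).codRestrict M m0)
  have ef : ∀ x, f x = π (φ (f0 x)) := fun _ => rfl
  have fz : f z0 = π (φ Z) := by
    rw [ef, (by simp only [tup, BN.ev_cons, BN.ev_nil, List.getD_cons_succ, List.getD_cons_zero]; exact pd! :
      z0 = BN.ev (tup [ρ0, ρ0⁻¹, a0, a0⁻¹, s0]) [2, 0, 2, 1, 1, 2, 0]), e0]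
    exact congrArg (π ∘ φ) bd!
  have z1 : π (φ Z) ≠ 1 := fun e => absurd (mW ((q.ker zM).1 e)) bd!
  have z3 : π (φ Z) ^ 3 = 1 := by rw [← q.map_pow zM, h.z3, q.map_one]
  have e := (MulEquiv.ofBijective (f.codRestrict (centralizer {π (φ Z)}) fun x => mem_cent.2 (fz ▸
    Commute.map (Subtype.ext (mem_cent.1 x.2).eq : Commute x z0) f))
    ⟨(f.injective_codRestrict _ _).2 (inj0 (fz ▸ z1)), fun ⟨x, a⟩ => by
      obtain ⟨g, b, rfl⟩ := q.surj x
      have d := (kc b Z (by simp) zM (conj_of_comm (mem_cent.1 a))).2
      obtain ⟨k, rfl⟩ := h.cz d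
      have l : ∀ i : ℕ, φ (f0 (tup [ρ0, ρ0⁻¹, a0, a0⁻¹, s0] i)) ∈ (f.range.comap q.hom).map M.subtype :=
        fun i => ⟨⟨_, m0 _⟩, ⟨_, rfl⟩, rfl⟩
      have l' : φ (V * B) ∈ (f.range.comap q.hom).map M.subtype :=
        ⟨⟨_, q.le (mem_zpowers _)⟩, ⟨1, (map_one f).trans (q.of_mem (mem_zpowers _)).symm⟩, rfl⟩
      obtain ⟨_, ⟨x, e⟩, e'⟩ : φ k ∈ (f.range.comap q.hom).map M.subtype := th_mem ((bd! : ∀ k, Commute k Z →
        k * (V * B) * k⁻¹ = V * B ∨ k * (V * B) * k⁻¹ = (V * B)⁻¹ → th (nat_lit 0x86f000d452f000134ef00000515000226a50000065d0001a6ae0000032e001144ee0000000000000000000000000000000000000000000000000000000000000000000000000000000000000000000000000000000000000000000000000000000000000000000000000002289d000034d500000065000134ee0000086e000d452e000032ef000028af0011352f0000000000000000000000000000000000000000000000000000000000000000000000000000000000000000000000000000000000000000000000000000000000000000000000000011352e000032ee000028ae0000032f001144ef0001a6af0001a8a50000269d0000010d000000000000000000000000000000000000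0000000000000000000000000000000000000000000000000000000000000000000000000000000000000000000000000000000000000000000000000000000000000000000000000000000000000000000000000000000000000000b2ef000008af000cc32f0002185d000032cd000000a5000034ee0000186e0010b32e0000000000000000000000000000000000000000000000000000000000000000000000000000000000000000000000000000000000000000000000000000000000000000000000000000030d000216650000069d000008ae000cc32e0000b2ee0001966f0000052f0010c2ef0000000000000000000000000000000000000000000000000000000000000000000000000000000000000000000000000000000000000000000000000000000000000000000000000000052e0010c2ee0001966e0010b32f000034ef0000186f000198650000165d000001150000000000000000000000000000000000000000000000000000000000000000000000000000000000000000000000000000000000000000000000000000000000000000000000000000000000000000000000000000000000000000000000000000000000000000000000000030c2ef0005966f0000012f0000169d0000050d00061665000132ee000018ae002cc32e000000000000000000000000000000000000000000000000000000000000000000000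0000000000000000000000000000000000000000000000000000000000000000000000000000000265d00000315000598650030c2ee0005966e0000012e0000b4ef0000286f0030b32f0000000000000000000000000000000000000000000000000000000000000000000000000000000000000000000000000000000000000000000000000000000000000000000000000000b4ee0000286e0030b32e000132ef000018af002cc32f0006185d0000b2cd000000250000066f0001452f001134ef000045150001a6a50000005d000026ae0000432e000d44ee0000000000000000000000000000000000000000000000000000000000000000000000000000000000000000000000000000000000000000000000000000000000000000000000000001a89d000004d500000865001134ee0000066e0001452e000002ef000228af000d352f000000000000000000000000000000000000000000000000000000000000000000000000000000000000000000000000000000000000000000000000000000000000000000000000000d352e000002ee000228ae0000432f000d44ef000026af000028a50002269d000000cd000000000000000000000000000000000000000000000000000000000000000000000000000000000000000000000000000000000000000000000000000000000000000000000000000000000000000000000000000000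0000000000000000000000000000000000000000000010b2ef000006af0000c32f0001985d000002cd000008a5000004ee0002186e000cb32e0000000000000000000000000000000000000000000000000000000000000000000000000000000000000000000000000000000000000000000000000000000000000000000000000000430d000196650000009d000006ae0000c32e0010b2ee0000166f0000452f000cc2ef0000000000000000000000000000000000000000000000000000000000000000000000000000000000000000000000000000000000000000000000000000000000000000000000000000452e000cc2ee0000166e000cb32f000004ef0002186f000018650002165d000000d50000000000000000000000000000000000000000000000000000000000000000000000000000000000000000000000000000000000000000000000000000000000000000000000000000000000000000000000000000000000000000000000000000000000000000000000000006186f002cb32f000000ef000002d5000028650006165d0000266e0000c52e002cc2ee000000000000000000000000000000000000000000000000000000000000000000000000000000000000000000000000000000000000000000000000000000000000000000000000000004cd000018a50005985d0006186e002cb32e000000ee000016af0001432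f0030b2ef000000000000000000000000000000000000000000000000000000000000000000000000000000000000000000000000000000000000000000000000000000000000000000000000000016ae0001432e0030b2ee0000266f0000c52f002cc2ef0000c30d000596650000001d0000006f0011452f000d34ef00003515000026a50000085d000226ae0000332e000144ee0000000000000000000000000000000000000000000000000000000000000000000000000000000000000000000000000000000000000000000000000000000000000000000000000000289d000044d500000665000d34ee0000006e0011452e000042ef0001a8af0001352f0000000000000000000000000000000000000000000000000000000000000000000000000000000000000000000000000000000000000000000000000000000000000000000000000001352e000042ee0001a8ae0000332f000144ef000226af000228a50001a69d0000000d000000000000000000000000000000000000000000000000000000000000000000000000000000000000000000000000000000000000000000000000000000000000000000000000000000000000000000000000000000000000000000000000000000000000000000000000000cb2ef000000af0010c32f0000185d000042cd000006a5000044ee0001986e0000b32e000000000000000000000000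0000000000000000000000000000000000000000000000000000000000000000000000000000000000000000000000000000000000000000000000000000330d000016650000089d000000ae0010c32e000cb2ee0002166f0000352f0000c2ef0000000000000000000000000000000000000000000000000000000000000000000000000000000000000000000000000000000000000000000000000000000000000000000000000000352e0000c2ee0002166e0000b32f000044ef0001986f000218650001965d000000150000000000000000000000000000000000000000000000000000000000000000000000000000000000000000000000000000000000000000000000000000000000000000000000000000000000000000000000000000000000000000000000000000000000000000000000000030c32f002cb2ef0000002f000016a50000285d0000c2cd0001332e0000c4ee0005986e000000000000000000000000000000000000000000000000000000000000000000000000000000000000000000000000000000000000000000000000000000000000000000000000000026650000189d0000b30d0030c32e002cb2ee0000002e0000b52f000142ef0006166f000000000000000000000000000000000000000000000000000000000000000000000000000000000000000000000000000000000000000000000000000000000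0000000000000000000b52e000142ee0006166e0001332f0000c4ef0005986f000618650005965d0000000500000117000198670000165f00000061000042cc000000d3000032ce000000a60002185e0000000000000000000000000000000000000000000000000000000000000000000000000000000000000000000000000000000000000000000000000000000000000000000000000000430b00000659000000140000165e00000116000198660000069f0000030f00021667000000000000000000000000000000000000000000000000000000000000000000000000000000000000000000000000000000000000000000000000000000000000000000000000000216660000069e0000030e000000a70002185f000032cf0000330c000002cb000000220000000000000000000000000000000000000000000000000000000000000000000000000000000000000000000000000000000000000000000000000000000000000000000000000000000000000000000000000000000000000000000000000000000000000000000000000000269f0000010f0001a8a7000045130000069a0000000c0000065e00000516000226a6000000000000000000000000000000000000000000000000000000000000000000000000000000000000000000000000000000000000000000000000000000000000000000000000000000a2000044d400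0000cb0000010e0001a8a60000269e000034d7000000670002289f000000000000000000000000000000000000000000000000000000000000000000000000000000000000000000000000000000000000000000000000000000000000000000000000000000660002289e000034d6000226a70000065f0000051700003514000004d3000000210000000000000000000000000000000000000000000000000000000000000000000000000000000000000000000000000000000000000000000000000000000000000000000000000000000000000000000000000000000000000000000000000000000000000000000000000006185f0000b2cf00000027000004cb000000620000b30c0000169e0000050e00061666000000000000000000000000000000000000000000000000000000000000000000000000000000000000000000000000000000000000000000000000000000000000000000000000000002d3000000a10000c2cc0006185e0000b2ce000000260000265f00000317000598670000000000000000000000000000000000000000000000000000000000000000000000000000000000000000000000000000000000000000000000000000000000000000000000000000265e00000316000598660000169f0000050f000616670000c30b0000165900000004000000d7000018670002165f00000861000032cc00000013000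002ce000008a60001985e0000000000000000000000000000000000000000000000000000000000000000000000000000000000000000000000000000000000000000000000000000000000000000000000000000330b00000059000001140002165e000000d6000018660000009f0000430f00019667000000000000000000000000000000000000000000000000000000000000000000000000000000000000000000000000000000000000000000000000000000000000000000000000000196660000009e0000430e000008a70001985f000002cf0000030c000042cb0000001a0000000000000000000000000000000000000000000000000000000000000000000000000000000000000000000000000000000000000000000000000000000000000000000000000000000000000000000000000000000000000000000000000000000000000000000000000002269f000000cf000028a7000035130000009a0000010c0000005e000045160001a6a6000000000000000000000000000000000000000000000000000000000000000000000000000000000000000000000000000000000000000000000000000000000000000000000000000008a2000034d40000000b000000ce000028a60002269e000004d7000008670001a89f000000000000000000000000000000000000000000000000000000000000000000000000000000000000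000000000000000000000000000000000000000000000000000000000000000008660001a89e000004d60001a6a70000005f0000451700000514000044d3000000190000000000000000000000000000000000000000000000000000000000000000000000000000000000000000000000000000000000000000000000000000000000000000000000000000000000000000000000000000000000000000000000000000000000000000000000000000c30f000596670000001f00000099000003140000b30b000002d6000028660006165e0000000000000000000000000000000000000000000000000000000000000000000000000000000000000000000000000000000000000000000000000000000000000000000000000000005a0000050c0000c2cb0000c30e000596660000001e000004cf000018a70005985f000000000000000000000000000000000000000000000000000000000000000000000000000000000000000000000000000000000000000000000000000000000000000000000000000004ce000018a60005985e000002d7000028670006165f000018610000b2cc0000000300000017000218670001965f00000661000002cc00000113000042ce000006a60000185e000000000000000000000000000000000000000000000000000000000000000000000000000000000000000000000000000000000000000000000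0000000000000000000000000000000030b00000859000000d40001965e00000016000218660000089f0000330f00001667000000000000000000000000000000000000000000000000000000000000000000000000000000000000000000000000000000000000000000000000000000000000000000000000000016660000089e0000330e000006a70000185f000042cf0000430c000032cb000000020000000000000000000000000000000000000000000000000000000000000000000000000000000000000000000000000000000000000000000000000000000000000000000000000000000000000000000000000000000000000000000000000000000000000000000000000001a69f0000000f000228a7000005130000089a000000cc0000085e00003516000026a6000000000000000000000000000000000000000000000000000000000000000000000000000000000000000000000000000000000000000000000000000000000000000000000000000006a2000004d40000010b0000000e000228a60001a69e000044d7000006670000289f000000000000000000000000000000000000000000000000000000000000000000000000000000000000000000000000000000000000000000000000000000000000000000000000000006660000289e000044d6000026a70000085f0000351700004514000034d300000001000000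000000000000000000000000000000000000000000000000000000000000000000000000000000000000000000000000000000000000000000000000000000000000000000000000000000000000000000000000000000000000000000000000000000000000000000000618670005965f00000007000004cc0000031300001661000016a60000285e0000c2ce000000000000000000000000000000000000000000000000000000000000000000000000000000000000000000000000000000000000000000000000000000000000000000000000000002d40000050b00001859000618660005965e00000006000026670000189f0000b30f000000000000000000000000000000000000000000000000000000000000000000000000000000000000000000000000000000000000000000000000000000000000000000000000000026660000189e0000b30e000016a70000285f0000c2cf0000c30c0000b2cb00000000)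
          [A * C, (A * C)⁻¹, Y, Y⁻¹, T, V * B, (V * B)⁻¹] k = k) k (h.cm d) (mM.2 b)) (by
        simp only [e1] at l
        simp only [List.forall_mem_cons, map_inv, inv_mem_iff]
        exact ⟨l 0, l 0, l 2, l 2, l 4, l', l', by simp⟩)
      exact ⟨x, Subtype.ext (e.trans (congrArg π e'))⟩⟩).symm
  have mJ : ∀ {x}, x ∈ (q.hom.comp (inclusion JM)).range ↔ ∃ j ∈ sJ, π (φ j) = x :=
    ⟨fun ⟨⟨_, j, a, rfl⟩, b⟩ => ⟨j, a, b⟩, fun ⟨j, a, b⟩ => ⟨⟨_, j, a, rfl⟩, b⟩⟩
  have cL : Nat.card (zpowers (φ (V * B))) = 3 := by rw [Nat.card_zpowers, orderOf_three w3 w1]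
  have jj : ∀ i ∈ sJ, ∀ j ∈ sJ, Commute (π (φ i)) (π (φ j)) := fun i a j b =>
    (Commute.map (Subtype.ext (((bd! : ∀ i ∈ sS, Commute i Y → ∀ j ∈ sS, Commute j Y → Commute i j) i a.1
      (mem_cent.1 a.2) j b.1 (mem_cent.1 b.2)).map φ).eq : Commute (⟨_, JM (mem_map_of_mem φ a)⟩ : M)
        ⟨_, JM (mem_map_of_mem φ b)⟩) q.hom :)
  refine (S3343.result _ (orderOf_three z3 z1) e (q.hom.comp (inclusion JM)).range
    (fun x b => by obtain ⟨j, a, rfl⟩ := mJ.1 b; exact mem_cent.2 (jj j a Z bd!))
    ⟨⟨fun ⟨x, a⟩ ⟨y, b⟩ => Subtype.ext (by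
      obtain ⟨i, d, rfl⟩ := mJ.1 a; obtain ⟨j, e, rfl⟩ := mJ.1 b; exact (jj i d j e).eq)⟩⟩
    (fun x b => by
      obtain ⟨j, a, rfl⟩ := mJ.1 b
      rw [← q.map_pow (JM (mem_map_of_mem φ a)), ← map_pow, (bd! : ∀ j ∈ sJ, j ^ 3 = 1) j a, map_one,
        q.map_one])
    (by
      have := (q.hom.comp (inclusion JM)).ker.card_mul_index
      rw [index_ker, show (q.hom.comp (inclusion JM)).ker = (zpowers _).subgroupOf _ from
        Subgroup.ext fun x => q.ker (JM x.2), Nat.card_congr (subgroupOfEquivOfLe wJ).toEquiv, cL, h.cd,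
        card_sJ] at this
      omega) (fun U cU nU => ?_)).elim (fun n => ?_) fun ⟨ι⟩ => ?_
  rotate_left
  · refine mem_normalizer_fintype ?_
    rintro _ ⟨j, a, rfl⟩
    have b := JM (mem_map_of_mem φ a)
    obtain ⟨i, d, e⟩ := mJ.1 (n.conj_mem _ (mJ.2 ⟨j, a, rfl⟩) (π g))
    rw [← q.map_conj (cM c) b, eq_comm, q.eq_iff (mul_mem (mul_mem (cM c) b) (inv_mem (cM c)))
      (JM (mem_map_of_mem φ d))] at e
    exact (mul_mem_cancel_right (inv_mem (mem_map_of_mem φ d))).1 (wJ e)
  · have pc : ∀ {a b}, φ a ∈ M → φ b ∈ M → (Commute (π (φ a)) (π (φ b)) ↔ π (φ ⁅a, b⁆) = 1) := fun a b => by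
      rw [← commutatorElement_eq_one_iff_commute, map_commutatorElement]
      exact Eq.congr_left (map_commutatorElement q.hom ⟨_, a⟩ ⟨_, b⟩).symm
    have vM := mul_mem (mul_mem yM uM) (inv_mem yM)
    rw [cjk rfl] at vM
    obtain ⟨x, e⟩ := isConj_iff.1 (nine (u := π (φ (A * C))) (v := π (φ (Y * (A * C) * Y⁻¹))) ι e z3 z1
      (by rw [← q.map_pow uM, ← map_pow, (bd! : (A * C) ^ 3 = 1), map_one, q.map_one])
      (isConj_iff.2 ⟨_, by rw [← q.map_conj yM uM, cjk rfl]⟩)
      (by rw [pc uM zM, (bd! : ⁅A * C, Z⁆ = 1), map_one, q.map_one])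
      (by rw [pc vM zM, (bd! : ⁅Y * (A * C) * Y⁻¹, Z⁆ = 1), map_one, q.map_one])
      (by rw [pc uM vM, (bd! : ⁅A * C, Y * (A * C) * Y⁻¹⁆ = Z⁻¹), map_inv, q.map_inv zM, inv_eq_one]; exact z1))
    obtain ⟨g, b, rfl⟩ := q.surj x
    exact absurd (kc b _ (by simp) uM e).1 bd!
  have mU : ∀ {g}, g ∈ (U.comap q.hom).map M.subtype ↔ g ∈ M ∧ π g ∈ U :=
    ⟨fun ⟨k, a, b⟩ => b ▸ ⟨k.2, a⟩, fun ⟨a, b⟩ => ⟨⟨_, a⟩, b, rfl⟩⟩
  have n9 : ¬ 9 ∣ Nat.card ((U.comap q.hom).map M.subtype ⊓ centralizer {φ (V * B)} :) := fun d => by
    replace d := d.trans (card_dvd_of_le inf_le_left)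
    rw [card_subtype, Grp.card_comap_of_surjective _ q.hom_surj, show q.hom.ker = (zpowers _).subgroupOf _ from
      Subgroup.ext fun x => q.ker x.2, Nat.card_congr (subgroupOfEquivOfLe q.le).toEquiv, cL] at d
    have := (Nat.prime_three.coprime_iff_not_dvd).1 cU.symm
    omega
  have nj : ∀ {j g}, j ∈ sJ → g ∈ M → π g ∈ U → π (φ j * g * (φ j)⁻¹) ∈ U := fun {j g} a b d => by
    rw [q.map_conj (JM (mem_map_of_mem φ a)) b]
    exact (nU _ (mJ.2 ⟨j, a, rfl⟩)).le (mem_map_of_mem _ d)
  have jw : ∀ {j}, j ∈ sJ → Commute (φ j) (φ (V * B)) := fun a =>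
    ((bd! : ∀ j ∈ sJ, Commute j (V * B)) _ a).map φ
  have k1 : ∀ {g}, g ∈ M → π g ∈ U → Commute g (φ (V * B)) → π g = 1 := fun a b d => by
    obtain ⟨o, ho, t, ht, e⟩ := burn_three w3 w1 (mem_inf.2 ⟨mU.2 ⟨q.le (mem_zpowers _),
      q.of_mem (mem_zpowers _) ▸ one_mem U⟩, mem_cent.2 (Commute.refl _)⟩) n9 (fun g hg e => ne_inv3 w3 w1
        ((conj_of_comm (mem_cent.1 hg.2)).symm.trans e)) ⟨mU.2 ⟨a, b⟩, mem_cent.2 d⟩
    have n : ∀ j ∈ sJ, φ j ∈ 𝐍[(U.comap q.hom).map M.subtype ⊓ centralizer {φ (V * B)}] := fun j a =>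
      mem_normalizer_fintype fun x b => ⟨mU.2 ⟨mul_mem (mul_mem (JM (mem_map_of_mem φ a)) (mU.1 b.1).1)
        (inv_mem (JM (mem_map_of_mem φ a))), nj a (mU.1 b.1).1 (mU.1 b.1).2⟩,
        mem_cent.2 (((jw a).mul_left (mem_cent.1 b.2)).mul_left (jw a).inv_left)⟩
    rw [h.sig _ (coprime_Op' 3 _) (((closure_le _).2 (Set.pair_subset (n Z bd!) (n V bd!))).trans
      (norm_le_norm_Op' 3 _)), mem_bot] at ho
    rw [e, ho, one_mul, q.of_mem ht]
  refine eq_bot_iff.2 fun x hx => ?_
  obtain ⟨g, b, rfl⟩ := q.surj x
  have k2 : ∀ j ∈ sJ, π (φ j * g * (φ j)⁻¹ * g⁻¹) = 1 := fun j a => by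
    have d := JM (mem_map_of_mem φ a)
    have d' := mul_mem (mul_mem d b) (inv_mem d)
    refine k1 (mul_mem d' (inv_mem b)) (by
      rw [q.mul d' (inv_mem b), q.map_inv b]; exact mul_mem (nj a b hx) (inv_mem hx)) ?_
    have e : Commute (φ j)⁻¹ (g⁻¹ * φ (V * B) * g) := by
      rcases (nM _).1 (inv_mem b) with e | e <;> rw [inv_inv] at e <;> rw [e]
      exacts [(jw a).inv_left, (jw a).inv_inv]
    simpa [mul_assoc] using (jw a).mul_left (by simpa [mul_assoc] using Commute.cj e g :
      Commute (g * (φ j)⁻¹ * g⁻¹) (φ (V * B)))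
  have k3 : ∀ j ∈ sJ, Commute (π (φ j)) (π g) := fun j a => by
    have d := JM (mem_map_of_mem φ a)
    have e := k2 j a
    rwa [q.mul (mul_mem (mul_mem d b) (inv_mem d)) (inv_mem b), q.map_conj d b, q.map_inv b,
      ← commutatorElement_def, commutatorElement_eq_one_iff_commute] at e
  have d := (kc b Z (by simp) zM (conj_of_comm (k3 Z bd!).symm)).2
  obtain ⟨k, rfl⟩ := h.cz d
  have k4 : ∀ j ∈ sJ, ⁅j, k⁆ ∈ [1, V * B, (V * B)⁻¹] := fun j a => by
    have d := JM (mem_map_of_mem φ a)
    exact mW (map_commutatorElement φ j k ▸ (q.ker (mul_mem (mul_mem (mul_mem d b) (inv_mem d))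
      (inv_mem b))).1 (k2 j a))
  exact k1 b hx (((bd! : ∀ k, Commute k Z → ⁅V, k⁆ ∈ [1, V * B, (V * B)⁻¹] → ⁅Y, k⁆ ∈ [1, V * B, (V * B)⁻¹] →
    Commute k (V * B)) k (h.cm d) (k4 V bd!) (k4 Y bd!)).map φ)

end Ch

end Cfsg.Agent.L43
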