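import Cfsg.Agent.L43.Gens
import Cfsg.Agent.L43.K
import Cfsg.Agent.G23.AmI
import Cfsg.Agent.Loc3.PrP

/-! Identification of the normaliser of `⟨z⟩`. -/

set_option autoImplicit false
set_option maxRecDepth 100000
set_option synthInstance.maxHeartbeats 400000
set_option synthInstance.maxSize 4000

namespace Cfsg.Agent.L43

open Subgroup Cfsg Cfsg.Agent.PLocal Cfsg.Agent.PLocal.Amb Cfsg.Agent.Loc3 Cfsg.Agent.Comp
open Cfsg.Agent.G23.Am (M2 card_pow one_of_sq mem_of_sq cjk card_seg seg_le)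
open Cfsg.Agent.He5 (inv_self)
open Cfsg.Agent.X32 (TG BD)
open Cfsg.Agent.X32.TG Cfsg.Agent.LES Cfsg.Agent.Loc3.Pr
open scoped commutatorElement

variable {G : Type*} [Group G]

/-- the normaliser of `⟨z⟩` in terms of the table group -/
structure Ch (φ : K →* G) : Prop where
  inj : Function.Injective φ
  nz : ∀ g ∈ 𝐍[zpowers (φ Z)], g ∈ φ.range
  ex : ∃ π, Ex (φ Z) (sQ.map φ) π
  cv : IsConj (φ Z) (φ V)

theorem inj_of {φ : K →* G} (c : φ Z ≠ 1) : Function.Injective φ := by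
  have g : ∀ k ∈ sZ, φ k = 1 → k = 1 := fun k hk e => by
    rcases (bd! : ∀ k ∈ sZ, k = 1 ∨ k = Z ∨ k⁻¹ = Z) k hk with a | rfl | a
    exacts [a, absurd e c, absurd (by rw [← a, map_inv, e, inv_one]) c]
  have f : ∀ k ∈ sQ, φ k = 1 → k = 1 := fun k hk e => by
    rcases (bd! : ∀ k ∈ sQ, k ∈ sZ ∨ ∃ c ∈ [V, A, B, C], ⁅c, k⁆ ≠ 1 ∧ ⁅c, k⁆ ∈ sZ) k hk
      with a | ⟨w, -, a, b⟩
    exacts [g k a e, absurd (g _ b (by simp [e])) a]
  refine (injective_iff_map_eq_one φ).2 fun k e => ?_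
  rcases (bd! : ∀ k, k ∈ sQ ∨ ∃ c ∈ [V, A], ⁅c, k⁆ ≠ 1 ∧ ⁅c, k⁆ ∈ sQ) k with a | ⟨w, -, a, b⟩
  exacts [f k a e, absurd (f _ b (by simp [e])) a]

namespace Ex

variable {z v : G} {Q Q' : Subgroup G} {π π' : G → M2} (h : Ex z Q π) (h' : Ex v Q' π')
  (hv : v ∈ Q) (v1 : v ∉ zpowers z) [Finite G]
include h h' hv v1

theorem zv {x : G} (a : x ∈ zpowers z) (b : x ∈ zpowers v) : x = 1 := by
  by_contra c
  exact v1 ((zp h.z3 a c).le ((zp h'.z3 b c).ge (mem_zpowers v)))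

theorem exy : ∃ t r y a, Commute t z ∧ π t = -1 ∧ t * t = 1 ∧ t * v * t⁻¹ = v⁻¹ ∧ Commute r v ∧
    r * r = 1 ∧ r * z * r⁻¹ = z⁻¹ ∧ Commute t r ∧ y ∈ Q' ∧ Commute y z ∧ y ∉ Q ∧ Commute t y ∧
    r * y * r⁻¹ = y⁻¹ ∧ a ∈ Q ∧ a ∈ Q' ∧ ¬ Commute y a := by
  obtain ⟨zQ, z1⟩ := h.zmem h' hv v1
  obtain ⟨t, tz, e, t2, tv⟩ := h.ext hv v1
  obtain ⟨r, rv, e', r2, rz⟩ := h'.ext zQ z1
  have tN := (mem_norm_three h'.z3 h'.z1).2 (Or.inr tv)
  have s2 := X32.conj_sq (g := t) r2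
  have sv : Commute (t * r * t⁻¹) v := by simpa only [tv, Commute.inv_right_iff] using Commute.cj rv t
  have es := h'.neg sv s2 (mt conj_eq_one_iff.1 (h'.ne1 e'))
  have sz : t * r * t⁻¹ * z * (t * r * t⁻¹)⁻¹ = z⁻¹ := by
    rw [← conj_of_comm tz, conj_mul, conj_inv, conj_mul, rz, conj_inv]
  have tt : t * (t * r * t⁻¹) * t⁻¹ = r := by
    rw [show t * (t * r * t⁻¹) * t⁻¹ = t * t * r * (t * t)⁻¹ by group, t2]; simp
  have br := braid r2 s2 (h'.ex ((h'.ker (rv.mul_left sv)).1 (by rw [h'.mul rv sv, e', es]; simp)))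
  have tr : Commute t (r * (t * r * t⁻¹) * r) := comm_of_conj (by rw [← conj_mul, ← conj_mul, tt, br])
  have er : π' (r * (t * r * t⁻¹) * r) = -1 := by rw [h'.mul (rv.mul_left sv) rv, h'.mul rv sv, e', es]; simp
  have rv' := (rv.mul_left sv).mul_left rv
  have r2' : r * (t * r * t⁻¹) * r * (r * (t * r * t⁻¹) * r) = 1 := by
    simpa only [inv_self r2] using X32.conj_sq (g := r) s2
  have rz' : r * (t * r * t⁻¹) * r * z * (r * (t * r * t⁻¹) * r)⁻¹ = z⁻¹ := by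
    generalize t * r * t⁻¹ = s at *
    rw [show r * s * r * z * (r * s * r)⁻¹ = r * (s * (r * z * r⁻¹) * s⁻¹) * r⁻¹ by group, rz,
      ← conj_inv, sz, inv_inv, rz]
  generalize r * (t * r * t⁻¹) * r = s at *
  obtain ⟨p, a, q, b, c, d, f⟩ := h'.nab zQ z1
  obtain ⟨x, xQ, xz, xn⟩ : ∃ x ∈ Q', Commute x z ∧ x ∉ Q := by
    by_contra! g
    exact f (commutatorElement_eq_one_iff_commute.1 (h.zv h' hv v1 (h.cm (g p a c) (g q b d)) (h'.cm a b)))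
  have m := (tz.mul_left xz).mul_left tz.inv_left
  have u1 : x⁻¹ * (t * x * t⁻¹) ∈ Q := h.eq_of xz m (by
    rw [h.mul (tz.mul_left xz) tz.inv_left, h.mul tz xz, inv_self t2, e]; simp)
  have u2 := mul_mem (inv_mem xQ) (conj_mem_of_mem_normalizer (h'.nQ tN) xQ)
  have ty := fixc t2 (h.ex u1)
  have yQ := mul_mem xQ (inv_mem u2)
  have yz := xz.mul_left (h.cz u1).inv_left
  have yn := mt (Q.mul_mem_cancel_right (inv_mem u1)).1 xn
  generalize x * (x⁻¹ * (t * x * t⁻¹))⁻¹ = y at *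
  have ry : s * y * s⁻¹ = y⁻¹ := eq_inv_of_mul_eq_one_right (fix_one h'.z3 tv (h'.inv rv' er yQ)
    (ty.mul_right ((tr.mul_right ty).mul_right tr.inv_right)))
  by_contra! g
  replace g := fun a => g t s y a tz e t2 tv rv' r2' rz' tr yQ yz yn ty ry
  obtain ⟨_, ⟨i, rfl⟩, k⟩ := (h.m3' yQ a h' yz c).2.resolve_left yn
  obtain ⟨_, ⟨j, rfl⟩, l⟩ := (h.m3' yQ b h' yz d).2.resolve_left yn
  have k' := mul_mem a (zpow_mem yQ i)
  have l' := mul_mem b (zpow_mem yQ j)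
  have n := commutatorElement_eq_one_iff_commute.1 (h.zv h' hv v1 (h.cm k l) (h'.cm k' l'))
  simpa [f] using (n.mul_left ((g _ l l').zpow_left i).inv_left).mul_right
    (((g _ k k').symm.zpow_right j).mul_left ((Commute.refl y).zpow_zpow i j).inv_left).inv_right

theorem gens : ∃ n y r b, Commute n z ∧ Commute y z ∧ r * z * r⁻¹ = z⁻¹ ∧ b ∈ Q ∧ n ^ 4 = 1 ∧
    y ^ 3 = 1 ∧ (y * n) ^ 3 = 1 ∧ Commute (n * n) y ∧ r * r = 1 ∧ r * n * r⁻¹ = n⁻¹ ∧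
    r * y * r⁻¹ = y⁻¹ ∧ Commute r v ∧ Commute r b ∧ Commute v b ∧
    y * (n * v * n⁻¹) * y⁻¹ = n * v * n⁻¹ * v⁻¹ ∧ y * (n⁻¹ * b * n) * y⁻¹ = b * (n⁻¹ * b * n) ∧
    Commute y v ∧ Commute y b ∧ n * n * v * (n * n)⁻¹ = v⁻¹ ∧ ¬ Commute v (n⁻¹ * b * n) := by
  obtain ⟨zQ, z1⟩ := h.zmem h' hv v1
  obtain ⟨t, r, y, a, tz, e, t2, tv, rv, r2, rz, tr, yQ, yz, yn, ty, ry, aQ, aQ', ya⟩ := h.exy h' hv v1
  have y3 := h'.ex yQ
  obtain ⟨n, nz, n2, n3, rn⟩ := h.exn tz e t2 yz y3 yn ty rz tr r2 ry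
  obtain ⟨-, n4, tn⟩ := h.sq4 t2 n2
  obtain ⟨ω, o1, o2, o3⟩ := h.exists_om
  have yv := h'.cz yQ
  have ab : ∀ {p q}, p ∈ Q → p ∈ Q' → q ∈ Q → q ∈ Q' → Commute p q := fun a b c d =>
    commutatorElement_eq_one_iff_commute.1 (h.zv h' hv v1 (h.cm a c) (h'.cm b d))
  have rN := (mem_norm_three h.z3 h.z1).2 (Or.inr rz)
  have w3 : ∀ w : Sec h.sh, 3 • w = 0 := fun w => by
    obtain ⟨x, a, rfl⟩ := Sec.exists_pr_eq _ w
    rw [← Sec.pr_pow _ a, h.ex a, Sec.pr_one]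
  set σ := Sec.rep h.sh ⟨y, h.nz yz⟩
  set ν := Sec.rep h.sh ⟨n, h.nz nz⟩
  set ρ := Sec.rep h.sh ⟨r, rN⟩
  have k : ∀ {g k : 𝐍[zpowers z]}, g.1 = k.1 → ∀ x, Sec.rep h.sh g x = Sec.rep h.sh k x :=
    fun a x => by rw [Subtype.ext a]
  have k1 : ∀ {g : 𝐍[zpowers z]}, g.1 = 1 → ∀ x, Sec.rep h.sh g x = x := fun a x => by
    rw [k (k := 1) a, map_one]; rfl
  have mu : ∀ g k x, Sec.rep h.sh g (Sec.rep h.sh k x) = Sec.rep h.sh (g * k) x := fun g k x => by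
    rw [map_mul]; rfl
  have ν2 : ∀ x, ν (ν x) = -x := fun x => by
    obtain ⟨x, a, rfl⟩ := Sec.exists_pr_eq _ x
    rw [mu, k (k := ⟨t, h.nz tz⟩) n2, Sec.rep_pr' _ _ a, eq_neg_iff_add_eq_zero, add_comm,
      ← Sec.pr_mul _ a (h.cj tz a),
      Sec.pr_eq_zero _ (mul_mem a (h.cj tz a))]
    exact h.inv tz e a
  have σv : σ (Sec.pr _ v) = Sec.pr _ v := by rw [Sec.rep_pr' _ _ hv, conj_of_comm yv]
  obtain ⟨c, cQ, cv⟩ := h.exc v1
  obtain ⟨a, aQ, av, ya⟩ : ∃ a ∈ Q, Commute a v ∧ σ (Sec.pr _ a) - Sec.pr _ a = Sec.pr _ v := by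
    have := Sec.rep_pr_sub h.sh ⟨y, h.nz yz⟩ aQ
    rcases (mem_zpowers_three h'.z3).1 (h'.cm yQ aQ') with f | f | f
    · exact absurd (commutatorElement_eq_one_iff_commute.1 f) ya
    · exact ⟨a, aQ, h'.cz aQ', f ▸ this⟩
    · refine ⟨a⁻¹, inv_mem aQ, (h'.cz aQ').inv_left, ?_⟩
      rw [Sec.pr_inv _ aQ, map_neg, ← neg_sub', this, f, Sec.pr_inv _ hv, neg_neg]
  obtain ⟨l1, l2, w, l3, l4, l5, l6, l7, l8⟩ := lin w3 (σ := σ) (ν := ν) (ρ := ρ) (ω := ω)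
    (fun x => by obtain ⟨x, a, rfl⟩ := Sec.exists_pr_eq _ x; exact (o1 a a).2 (Commute.refl x))
    (fun x y => o2 _ x y yz) (fun x y => o2 _ x y nz) (fun x y => o3 _ x y rz) ν2
    (fun x => by simp only [σ, ν, mu]; exact k1 (by simpa [pow_succ, mul_assoc] using n3) x)
    (fun x => by rw [mu]; exact k1 r2 x)
    (fun x => by simp only [σ, ρ, mu]; exact k (by
      change y * (r * y) = r; rw [eq_mul_of_mul_inv_eq ry]; simp) x)
    (fun x => by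
      rw [← ν2, eq_comm]; simp only [ν, ρ, mu]; exact k (by
        change n * (n * (n * r)) = r * n
        rw [eq_mul_of_mul_inv_eq rn, ← mul_assoc, ← mul_assoc, mul_left_inj, eq_inv_iff_mul_eq_one, ← n4]
        simp [pow_succ]) x)
    σv (by rw [Sec.rep_pr' _ _ hv, conj_of_comm rv]) (fun x => by
      obtain ⟨x, a, rfl⟩ := Sec.exists_pr_eq _ x
      have d := Sec.comm_mem h.sh (h.nz yz) a
      have e := Sec.comm_mem h.sh (h.nz yz) d
      have s := Sec.rep_pr_sub h.sh ⟨y, h.nz yz⟩ (x := x) a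
      have s' := Sec.rep_pr_sub h.sh ⟨y, h.nz yz⟩ d
      have dv : Commute ⁅y, x⁆ v := (o1 d hv).1 (by
        rw [← s, map_sub, AddMonoidHom.sub_apply, ← o2 ⟨y, h.nz yz⟩ (Sec.pr _ x) _ yz, σv, sub_self])
      have e' : ⁅y, ⁅y, x⁆⁆ ∈ Q' := by
        simpa only [commutatorElement_def y ⁅y, x⁆, mul_assoc] using
          mul_mem yQ (conj_mem_of_mem_normalizer (h'.nQ (h'.nz dv)) (inv_mem yQ))
      have f := commutatorElement_eq_one_iff_commute.1 (h.zv h' hv v1 ((Sec.pr_eq_zero h.sh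
        (Sec.comm_mem h.sh (h.nz yz) e)).1 (by
          have := k1 (g := ⟨y, h.nz yz⟩ * (⟨y, h.nz yz⟩ * ⟨y, h.nz yz⟩))
            (by simpa [pow_succ, mul_assoc] using y3) (Sec.pr _ x)
          rw [← Sec.rep_pr_sub h.sh ⟨y, h.nz yz⟩ e, ← s', ← s, ← w3 (σ (Sec.pr _ x) - σ (σ (Sec.pr _ x)))]
          simp only [← mu] at this
          simp only [map_sub, this, σ]
          abel)) (h'.cm yQ e'))
      obtain ⟨u, i, k, j⟩ := h'.zz zQ z1 e' fun g a b => by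
        obtain ⟨_, ⟨i, rfl⟩, l⟩ := (h.m3' yQ a h' yz b).2.resolve_left yn
        simpa using (ab l (mul_mem a (zpow_mem yQ i)) e e').mul_left (f.zpow_left i).inv_left
      refine ⟨k, ?_⟩
      rw [s, s', ← add_zero (Sec.pr _ _), ← (Sec.pr_eq_zero _ (h.ZQ i)).2 i, ← Sec.pr_mul _ e (h.ZQ i), ← j,
        Sec.pr_of_mem _ hv, Sec.pr_of_mem _ (zpow_mem hv k)]
      rfl)
    (mt (o1 cQ hv).1 cv) ya ((o1 aQ hv).2 av)
  obtain ⟨x, xQ, rfl⟩ := Sec.exists_pr_eq _ w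
  have bQ := mul_mem xQ (h.ZQ (h.inv tz e xQ))
  have tb := h.invI tz e xQ
  rw [(Sec.pr_eq_pr _ xQ bQ).2 (by simpa using h.inv tz e xQ)] at l3 l4 l5 l6 l7 l8
  generalize x * (x * (t * x * t⁻¹)) = b at *
  have I : ∀ {g p}, Commute t g → t * p * t⁻¹ = p⁻¹ → t * (g * p * g⁻¹) * t⁻¹ = (g * p * g⁻¹)⁻¹ :=
    fun a b => by rw [← conj_mul, ← conj_mul, ← conj_inv, conj_of_comm a, b, conj_inv]
  have U : ∀ {p q}, p ∈ Q → q ∈ Q → t * p * t⁻¹ = p⁻¹ → t * q * t⁻¹ = q⁻¹ →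
      Sec.pr h.sh p = Sec.pr h.sh q → p = q := fun a b c d e =>
    h.uq tz a c d ((Sec.pr_eq_pr _ a b).1 e)
  have aQ := h.cj nz hv
  have cQ := inv_conj_mem_of_mem_normalizer (h.nQ (h.nz nz)) bQ
  have pc : Sec.pr h.sh (n⁻¹ * b * n) = -ν (Sec.pr _ b) := by
    rw [← neg_eq_iff_eq_neg, ← ν2, Sec.rep_pr' _ _ cQ]; simp [mul_assoc]
  rw [Sec.rep_pr' _ _ hv] at l1 l2
  have tc : t * (n⁻¹ * b * n) * t⁻¹ = (n⁻¹ * b * n)⁻¹ := by simpa only [inv_inv] using I tn.inv_right tb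
  have rQ := conj_mem_of_mem_normalizer (h.nQ rN) bQ
  refine ⟨n, y, r, b, nz, yz, rz, bQ, n4, y3, n3, n2 ▸ ty, r2, rn, ry, rv,
    comm_of_conj (U rQ bQ (I tr tb) tb (by rw [← Sec.rep_pr' _ rN bQ, l4])), (o1 hv bQ).1 l7,
    U (h.cj yz aQ) (mul_mem aQ (inv_mem hv)) (I ty (I tn tv)) ?_ ?_,
    U (h.cj yz cQ) (mul_mem bQ cQ) (I ty tc) ?_ ?_, yv,
    comm_of_conj (U (h.cj yz bQ) bQ (I ty tb) tb (by rw [← Sec.rep_pr' _ (h.nz yz) bQ, l3])),
    n2 ▸ tv, fun a => l8 (by simpa [pc] using (o1 hv cQ).2 a)⟩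
  · rw [← conj_mul, I tn tv, ← conj_inv (b := t), tv, ← mul_inv_rev, ((o1 aQ hv).1 l2).inv_right.eq]
  · rw [← Sec.rep_pr' _ (h.nz yz) aQ, l1, Sec.pr_mul _ aQ (inv_mem hv), Sec.pr_inv _ hv, sub_eq_add_neg]
  · rw [← conj_mul, tb, tc, ← mul_inv_rev, ((o1 cQ bQ).1 (by simpa [pc] using l6)).eq]
  · rw [← Sec.rep_pr' _ (h.nz yz) cQ, Sec.pr_mul _ bQ cQ, pc, map_neg, l5]
    abel

theorem chart (c : IsConj z v) : ∃ φ : K →* G, Ch φ := by
  obtain ⟨n, y, r, b, nz, yz, rz, bQ, n4, y3, n3, ny, r2, rn, ry, rv, rb, vb, e1, e2, yv, yb, nv, nc⟩ :=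
    h.gens h' hv v1
  have ki : ∀ {w : G}, r * w * r⁻¹ = w⁻¹ → r * (w * (r * w)) = 1 := fun b => by
    rw [inv_self r2] at b; rw [← mul_assoc, ← mul_assoc, b, inv_mul_cancel]
  have kc : ∀ {w : G}, Commute r w → r * (w * (r * w⁻¹)) = 1 := fun b => by
    rw [← mul_assoc, ← mul_assoc, b.eq, mul_assoc _ r r, r2, mul_one, mul_inv_cancel]
  have kd : ∀ {u w : G}, Commute u w → u * (w * (u⁻¹ * w⁻¹)) = 1 := fun b => by
    simpa [commutatorElement_def, mul_assoc] using b.commutator_eq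
  obtain ⟨φ, e⟩ := link_hom linkK (x := tup [n, n⁻¹, y, y⁻¹, r, v, v⁻¹, b, b⁻¹]) (sat_tup le_rfl
    (fun k hk => by
      have : k < 9 := List.mem_range.1 hk
      interval_cases k <;> first | exact inv_mul_cancel _ | exact mul_inv_cancel _ | exact r2)
    (BN.AllP.forall ⟨by simpa [tup, mul_assoc, pow_succ] using n4,
      by simpa [tup, mul_assoc, pow_succ] using y3, by simpa [tup, mul_assoc, pow_succ] using n3,
      by simpa [tup, mul_assoc] using kd ny, by simpa [tup] using ki rn, by simpa [tup] using ki ry,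
      by simpa [tup] using kc rv, by simpa [tup] using kc rb, by simpa [tup] using kd vb,
      by simpa [tup, mul_assoc] using congrArg (· * v * (n * v * n⁻¹)⁻¹) e1,
      by simpa [tup, mul_assoc] using congrArg (· * (n⁻¹ * b * n)⁻¹ * b⁻¹) e2,
      by simpa [tup] using kd yv, by simpa [tup] using kd yb,
      by simpa [tup, mul_assoc] using congrArg (· * v) nv, trivial⟩))
  have eN : φ N = n := by simpa [tup, lK] using e [0]
  have eV : φ V = v := by simpa [tup, lK] using e [5]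
  have eB : φ B = b := by simpa [tup, lK] using e [7]
  have eC : φ C = n⁻¹ * b * n := by rw [(bd! : C = N⁻¹ * B * N), map_mul, map_mul, map_inv, eN, eB]
  have cQ := inv_conj_mem_of_mem_normalizer (h.nQ (h.nz nz)) bQ
  have eZ : φ Z = ⁅v, n⁻¹ * b * n⁆ := by rw [(bd! : Z = ⁅V, C⁆), map_commutatorElement, eV, eC]
  have z1 : φ Z ≠ 1 := eZ ▸ mt commutatorElement_eq_one_iff_commute.1 nc
  have zz : φ Z ∈ zpowers z := eZ ▸ h.cm hv cQ
  have i := inj_of z1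
  have rN := (mem_norm_three h.z3 h.z1).2 (Or.inr rz)
  have le : φ.range ≤ 𝐍[zpowers z] := by
    rintro _ ⟨k, rfl⟩
    refine X32.range_le_of_gen linkK.top (fun k hk => ?_) k
    rw [show φ (tup lK k) = _ from by simpa using e [k]]
    have : k < 9 := hk
    interval_cases k
    exacts [h.nz nz, inv_mem (h.nz nz), h.nz yz, inv_mem (h.nz yz), rN, h.nz (h.cz hv),
      inv_mem (h.nz (h.cz hv)), h.nz (h.cz bQ), inv_mem (h.nz (h.cz bQ))]
  have eQ : sQ.map φ = Q := eq_of_le_of_card_ge (map_le_iff_le_comap.2 (seg_le (by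
    simp only [List.forall_mem_cons, mem_comap, map_inv, inv_mem_iff, eV, eB, eC]
    refine ⟨h.ZQ zz, hv, ?_, bQ, cQ, by simp⟩
    rw [← cjk (bd! : N * V * N⁻¹ = A), eN, eV]
    exact h.cj nz hv))) (by rw [Subgroup.card_map_of_injective i, card_seg (by decide), h.cQ])
  refine ⟨φ, i, ?_, ⟨π, eQ ▸ h.of_mem zz z1⟩, eV ▸ IsConj.trans ?_ c⟩
  · rw [zp h.z3 zz z1]
    refine (eq_of_le_of_card_ge le ?_).ge
    rw [← Nat.card_congr (MonoidHom.ofInjective i).toEquiv, TG.card]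
    refine (card_le_two (K := centralizer {z}) fun a ha b hb => ?_).trans
      ((Nat.mul_le_mul_left 2 (card_le_of_le inf_le_left)).trans_eq (by rw [h.cC]; rfl))
    rcases (mem_norm_three h.z3 h.z1).1 ha with p | p
    · exact Or.inl (mem_cent.2 (comm_of_conj p))
    rcases (mem_norm_three h.z3 h.z1).1 hb with q | q
    · exact Or.inr (Or.inl (mem_cent.2 (comm_of_conj q)))
    refine Or.inr (Or.inr (mem_cent.2 (comm_of_conj ?_)))
    rw [show a * b * z * (a * b)⁻¹ = a * (b * z * b⁻¹) * a⁻¹ by group, q, ← conj_inv, p, inv_inv]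
  · rcases (mem_zpowers_three h.z3).1 zz with p | p | p
    exacts [absurd p z1, p ▸ IsConj.refl _, p ▸ (isConj_iff.2 ⟨r, rz⟩).symm]

end Ex

end Cfsg.Agent.L43
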