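import Cfsg.Agent.Loc3.PrS

/-! Centralisers of involutions with a Sylow `3`-subgroup of order nine. -/

set_option autoImplicit false

namespace Cfsg.Agent.L43

open Subgroup Cfsg Cfsg.Agent.PLocal.Amb Cfsg.Agent.Loc3 Cfsg.Agent.Loc3.Pr
open scoped commutatorElement

variable {G : Type*} [Group G] {s u v r g : G} {O : Subgroup G}

theorem engel {a b : G} (a3 : a ^ 3 = 1) (b3 : b ^ 3 = 1) (h1 : (a * b) ^ 3 = 1)
    (h2 : (a * b⁻¹) ^ 3 = 1) : ⁅a, b⁆ ^ 3 = 1 := by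
  have e1 : a * b * a = b⁻¹ * a⁻¹ * b⁻¹ := by
    rw [← mul_inv_rev, ← mul_inv_rev, eq_inv_iff_mul_eq_one, ← h1]; simp [pow_succ, mul_assoc]
  have e2 : a * b⁻¹ * a = b * a⁻¹ * b := by
    rw [← mul_inv_eq_one, ← h2]; simp [pow_succ, mul_assoc]
  have e3 : b * b = b⁻¹ := (inv_eq_sq b3).symm
  have e4 : b⁻¹ * b⁻¹ = b := by rw [← mul_inv_rev, e3, inv_inv]
  have c : Commute a (b * a * b⁻¹) := by
    rw [Commute, SemiconjBy, ← mul_assoc, ← mul_assoc, e1, mul_assoc _ b⁻¹, e4, mul_assoc b, mul_assoc b, e2,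
      ← mul_assoc, ← mul_assoc, e3]
  rw [show ⁅a, b⁆ = a * (b * a * b⁻¹)⁻¹ by simp [commutatorElement_def, mul_assoc], c.inv_right.mul_pow,
    inv_pow, conj_pow, a3]
  simp

/-- an involution with a `3²` in its centraliser -/
structure D2 (s u v r : G) : Prop where
  s2 : s * s = 1
  s1 : s ≠ 1
  u3 : u ^ 3 = 1
  v3 : v ^ 3 = 1
  uv : Commute u v
  us : Commute u s
  vs : Commute v s
  v1 : v ≠ 1
  nu : u ∉ zpowers v
  cent : ∀ g, Commute g s → Commute g u → Commute g v →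
    g ∈ closure ({u, v} : Set G) ∨ g * s ∈ closure ({u, v} : Set G)
  diag : ∀ n, Commute n s → n ∈ 𝐍[closure ({u, v} : Set G)] →
    (n * u * n⁻¹ = u ∨ n * u * n⁻¹ = u⁻¹) ∧ (n * v * n⁻¹ = v ∨ n * v * n⁻¹ = v⁻¹)
  rs : Commute r s
  ru : r * u * r⁻¹ = u⁻¹
  rv : r * v * r⁻¹ = v⁻¹

/-- the `2`-core of the centraliser of `s` -/
structure Co (D : Subgroup G) (s : G) (O : Subgroup G) : Prop where
  two : IsPGroup 2 O
  ms : s ∈ O
  le : ∀ o ∈ O, Commute o s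
  nrm : ∀ g, Commute g s → g ∈ 𝐍[O]
  fac : ∀ g, Commute g s → ∃ o ∈ O, ∃ n ∈ 𝐍[D], g = o * n

namespace D2

variable (h : D2 s u v r)
include h

theorem cD {d : G} (hd : d ∈ closure ({u, v} : Set G)) : Commute d s :=
  (comm_pair hd h.us.symm h.vs.symm).symm

theorem d3 {d : G} (hd : d ∈ closure ({u, v} : Set G)) : d ^ 3 = 1 := cube_pair h.u3 h.v3 h.uv hd

theorem os : orderOf s = 2 := X32.orderOf_two h.s2 h.s1

variable [Finite G]

theorem core (hL : ∀ y ∈ closure ({u, v} : Set G), y ≠ 1 → LocG (closure {u, v}) s y) :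
    ∃ O, Co (closure {u, v}) s O := by
  obtain ⟨X, _, _, π, q⟩ := exists_CQ s
  have i3 : ∀ {a b : G}, Commute a s → Commute b s → a ^ 3 = 1 → b ^ 3 = 1 → π a = π b → a = b :=
    fun {a b} ca cb a3 b3 e => ((q.eq_iff_two h.s2 ca cb).1 e).resolve_right fun e => h.s1 (by
      rwa [e, cb.mul_pow, b3, one_mul, pow_three, h.s2, mul_one] at a3)
  have im := q.im_pair h.us h.vs
  have c3 : ∀ {g y : G}, Commute g s → y ∈ closure ({u, v} : Set G) →
      Commute (π g) (π y) → Commute g y := fun a b c =>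
    q.comm_of_comm a (h.cD b) c (h.d3 b) (by rw [h.os]; norm_num)
  have pc : ∀ {g y : G}, Commute g s → Commute y s → Commute g y → Commute (π g) (π y) :=
    fun a b c => by change _ = _; rw [← q.mul a b, ← q.mul b a, c.eq]
  have nm : ∀ {g : G}, Commute g s → (π g ∈ 𝐍[closure ({π u, π v} : Set X)] ↔
      g ∈ 𝐍[closure ({u, v} : Set G)]) := fun {g} c => by
    rw [← im]
    refine ⟨fun a => mem_normalizer_fintype fun d hd => ?_, fun a =>
      mem_normalizer_fintype fun d hd => ?_⟩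
    · obtain ⟨k, hk, ck, e'⟩ := q.mem_im.1 (conj_mem_of_mem_normalizer a (q.mem_im_of hd (h.cD hd)))
      exact i3 ck ((c.mul_left (h.cD hd)).mul_left c.inv_left) (h.d3 hk)
        (by rw [conj_pow, h.d3 hd]; simp) (e'.trans (q.map_conj c (h.cD hd)).symm) ▸ hk
    · obtain ⟨d, hd', cd, rfl⟩ := q.mem_im.1 hd
      rw [← q.map_conj c cd]
      exact q.mem_im_of (conj_mem_of_mem_normalizer a hd') ((c.mul_left cd).mul_left c.inv_left)
  have ac : ∀ {g w : G}, Commute g s → Commute w s → (g * w * g⁻¹ = w → π g * π w * (π g)⁻¹ = π w) ∧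
      (g * w * g⁻¹ = w⁻¹ → π g * π w * (π g)⁻¹ = (π w)⁻¹) := fun c d =>
    ⟨fun e => by rw [← q.map_conj c d, e], fun e => by rw [← q.map_conj c d, e, q.map_inv d]⟩
  have R : R2 (π u) (π v) := by
    refine ⟨by rw [← q.map_pow h.us, h.u3, q.map_one], by rw [← q.map_pow h.vs, h.v3, q.map_one],
      pc h.us h.vs h.uv, fun e' => h.v1 (i3 h.vs (Commute.one_left s) h.v3 (by simp)
        (e'.trans q.map_one.symm)), fun ⟨n, e'⟩ => ?_, fun g a b => ?_, fun n hn => ?_⟩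
    · have e1 : π (v ^ n) = π v ^ n := map_zpow q.hom ⟨_, mem_cent.2 h.vs⟩ n
      exact h.nu ⟨n, i3 (h.vs.zpow_left n) h.us (h.d3 (zpow_mem mem_r n)) h.u3 (e1.trans e')⟩
    · obtain ⟨g, cg, rfl⟩ := q.surj g
      rw [← im]
      rcases h.cent g cg (c3 cg mem_l a) (c3 cg mem_r b) with d | d
      · exact q.mem_im_of d cg
      · simpa [q.mul cg (Commute.refl s), q.map_s] using q.mem_im_of d (h.cD d)
    · obtain ⟨n, cn, rfl⟩ := q.surj n
      exact (h.diag n cn ((nm cn).1 hn)).imp (Or.imp (ac cn h.us).1 (ac cn h.us).2)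
        (Or.imp (ac cn h.vs).1 (ac cn h.vs).2)
  have key : ∀ y ∈ closure ({π u, π v} : Set X), y ≠ 1 → ∃ Q : Subgroup X,
      IsPGroup 2 Q ∧ Q ≤ Op' 3 (centralizer {y}) ∧ ∀ g, Commute g y → ∃ o ∈ Q,
        ∃ n ∈ 𝐍[closure ({π u, π v} : Set X)], g = o * n := fun y hy y1 => by
    obtain ⟨y, hy', cy, rfl⟩ := q.mem_im.1 (im.ge hy)
    obtain ⟨Q, a1, -, a3, a4⟩ := hL y hy' fun e' => y1 (by rw [e', q.map_one])
    have p2 : IsPGroup 2 (q.im Q) := (isPGroup_subgroupOf a1 _).map _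
    refine ⟨q.im Q, p2, le_Op' (fun o ho => ?_) (fun g hg => ?_) (cop_of_isP (by decide) p2),
      fun g c => ?_⟩
    · obtain ⟨o, ho', co, rfl⟩ := q.mem_im.1 ho
      exact mem_cent.2 (pc co cy (a3 o ho').2)
    · obtain ⟨g, cg, rfl⟩ := q.surj g
      refine mem_normalizer_fintype fun o ho => ?_
      obtain ⟨o, ho', co, rfl⟩ := q.mem_im.1 ho
      rw [← q.map_conj cg co]
      exact q.mem_im_of (conj_mem_of_mem_normalizer (a4 g cg (c3 cg hy' (mem_cent.1 hg))).1 ho')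
        ((cg.mul_left co).mul_left cg.inv_left)
    · obtain ⟨g, cg, rfl⟩ := q.surj g
      obtain ⟨-, o, ho, n, hn, rfl⟩ := a4 g cg (c3 cg hy' c)
      have co := (a3 o ho).1
      have cn : Commute n s := by simpa using co.inv_left.mul_left cg
      exact ⟨_, q.mem_im_of ho co, _, (nm cn).2 hn, q.mul co cn⟩
  have rN := (nm h.rs).2 (mem_norm_pair (h.ru ▸ inv_mem mem_l) (h.rv ▸ inv_mem mem_r))
  have core := R.core (fun y hy y1 g c => by
      obtain ⟨Q, -, a, b⟩ := key y hy y1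
      obtain ⟨o, ho, d⟩ := b g c
      exact ⟨o, a ho, d⟩)
    (fun _ a => absurd ((a _ rN).symm.trans ((ac h.rs h.vs).2 h.rv)) (ne_inv3 R.v3 R.v1))
    (fun _ a => absurd ((a _ rN).symm.trans ((ac h.rs h.us).2 h.ru)) (ne_inv3 R.u3 R.u1))
  have p2 : IsPGroup 2 (pPrimeCore 3 X) := two_group_of R.u3 R.v3 R.uv R.v1 R.nu (mem_nrm _ _)
    (mem_nrm _ _) (Grp.pPrimeCore_coprime 3 X) fun k hk a => by
      obtain ⟨y, hy, y1, c⟩ : ∃ y ∈ closure ({π u, π v} : Set X), y ≠ 1 ∧ Commute k y := by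
        rcases a with a | a | a | a
        exacts [⟨_, mem_l, R.u1, a⟩, ⟨_, mem_r, R.v1, a⟩, ⟨_, mul_mem mem_l mem_r,
          fun e => R.nu (by rw [eq_inv_of_mul_eq_one_left e]; simp), a⟩,
          ⟨_, mul_mem mem_l (inv_mem mem_r), fun e => R.nu (by rw [mul_inv_eq_one.1 e]; simp), a⟩]
      obtain ⟨Q, a1, a2, a3⟩ := key y hy y1
      obtain ⟨o, ho, n, hn, rfl⟩ := a3 k c
      have m : o * n ∈ Op' 3 (centralizer {y}) := le_Op' (K := pPrimeCore 3 X ⊓ centralizer {y})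
        inf_le_right (le_normalizer_inf (fun g _ => mem_nrm _ g) le_normalizer)
        ((Grp.pPrimeCore_coprime 3 X).coprime_dvd_left (card_dvd_of_le inf_le_left))
        ⟨hk, mem_cent.2 c⟩
      rw [R.eq_one_of hy ((mul_mem_cancel_left (a2 ho)).1 m) hn, mul_one]
      exact isPGroup_iff.1 a1 o ho
  have mO : ∀ {g : G}, g ∈ ((pPrimeCore 3 X).comap q.hom).map (centralizer {s}).subtype ↔
      Commute g s ∧ π g ∈ pPrimeCore 3 X :=
    ⟨fun ⟨k, a, b⟩ => b ▸ ⟨mem_cent.1 k.2, a⟩, fun ⟨a, b⟩ => ⟨⟨_, mem_cent.2 a⟩, b, rfl⟩⟩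
  refine ⟨_, isPGroup_iff.2 fun o ho => ?_, mO.2 ⟨Commute.refl s, q.map_s ▸ one_mem _⟩,
    fun o ho => (mO.1 ho).1, fun g hg => le_normalizer_map_subtype _ (mem_cent.2 hg),
    fun g hg => ?_⟩
  · obtain ⟨c, ho⟩ := mO.1 ho
    obtain ⟨k, hk⟩ := isPGroup_iff.1 p2 _ ho
    refine ⟨k + 1, ?_⟩
    rw [← q.map_pow c, q.eq_one_iff_two h.s2 (c.pow_left _)] at hk
    rcases hk with hk | hk <;> rw [pow_succ, pow_mul, hk]
    exacts [one_pow _, by rw [pow_two, h.s2]]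
  · obtain ⟨o, ho, n, hn, e'⟩ := core (π g)
    obtain ⟨n, cn, rfl⟩ := q.surj n
    refine ⟨g * n⁻¹, mO.2 ⟨hg.mul_left cn.inv_left, ?_⟩, n, (nm cn).1 hn, by simp⟩
    rwa [q.mul hg cn.inv_left, q.map_inv cn, e', mul_inv_cancel_right]

variable (c : Co (closure {u, v}) s O)
include c

theorem cent_le {M : Subgroup G} (hN : ∀ g ∈ 𝐍[closure ({u, v} : Set G)], Commute g s → g ∈ M)
    (hC : ∀ g, Commute g s → Commute g u ∨ Commute g v ∨ Commute g (u * v) ∨ Commute g (u * v⁻¹) →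
      g ∈ M) (hg : Commute g s) : g ∈ M := by
  obtain ⟨o, ho, n, hn, rfl⟩ := c.fac g hg
  exact mul_mem (le_of_four h.u3 h.v3 h.uv h.v1 h.nu (c.nrm _ h.us) (c.nrm _ h.vs)
    (cop_of_isP (by decide) c.two) (fun k a => hC k (c.le k a)) ho)
    (hN n hn (by simpa using (c.le o ho).inv_left.mul_left hg))

omit [Finite G] in
theorem comm_mem (hg : Commute g s) {d : G} (hd : d ∈ closure ({u, v} : Set G)) {k : ℕ}
    (h2 : (g * d * g⁻¹ * d⁻¹) ^ 2 ^ k = 1) : g * d * g⁻¹ * d⁻¹ ∈ O := by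
  obtain ⟨o, ho, n, hn, rfl⟩ := c.fac g hg
  have e1 := conj_mem_of_mem_normalizer hn hd
  have e0 := mul_mem e1 (inv_mem hd)
  have e2 : o * n * d * (o * n)⁻¹ * d⁻¹ =
      o * (n * d * n⁻¹ * o⁻¹ * (n * d * n⁻¹)⁻¹) * (n * d * n⁻¹ * d⁻¹) := by group
  have m := mul_mem ho (conj_mem_of_mem_normalizer (c.nrm _ (h.cD e1)) (inv_mem ho))
  have f := pow_mul_mem m (c.nrm _ (h.cD e0)) (2 ^ k)
  rw [← e2, h2, one_mul, inv_mem_iff] at f
  have e3 := not_mem2 c.two f (h.d3 (pow_mem e0 _))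
  rwa [e2, eq_one_of_two_three e3 (h.d3 e0), mul_one]

omit [Finite G] in
theorem core_mem {o : G} (ho : o ∈ O) (a : o ∈ 𝐍[closure ({u, v} : Set G)]) : o = 1 ∨ o = s := by
  have k : ∀ d ∈ closure ({u, v} : Set G), Commute o d := fun d hd => comm_of_conj (mul_inv_eq_one.1
    (not_mem2 c.two (by
      simpa only [mul_assoc] using mul_mem ho (conj_mem_of_mem_normalizer (c.nrm _ (h.cD hd)) (inv_mem ho)))
      (h.d3 (mul_mem (conj_mem_of_mem_normalizer a hd) (inv_mem hd)))))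
  refine (h.cent o (c.le o ho) (k _ mem_l) (k _ mem_r)).imp (fun e => not_mem2 c.two ho (h.d3 e)) fun e => ?_
  rw [eq_inv_of_mul_eq_one_left (not_mem2 c.two (mul_mem ho c.ms) (h.d3 e)), He5.inv_self h.s2]

theorem comm (hu : ∀ w ∈ [u, v], ∀ g, Commute g s → Commute g w → g ∈ 𝐍[closure ({u, v} : Set G)])
    {a b o o' : G} (as : Commute a s) (bs : Commute b s) (a3 : a ^ 3 = 1) (b3 : b ^ 3 = 1)
    (ho : o ∈ O) (ho' : o' ∈ O) (e : a * b = o * u) (e' : a * b⁻¹ = o' * v) (m : ⁅a, b⁆ ∈ O) :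
    Commute a b := by
  obtain ⟨X, _, _, π, q⟩ := exists_CQ s
  have : (q.im O).Normal := ⟨fun y hy g => by
    obtain ⟨g, cg, rfl⟩ := q.surj g
    obtain ⟨o, ho', co, rfl⟩ := q.mem_im.1 hy
    rw [← q.map_conj cg co]
    exact q.mem_im_of (conj_mem_of_mem_normalizer (c.nrm g cg) ho')
      ((cg.mul_left co).mul_left cg.inv_left)⟩
  have k : ∀ w ∈ [u, v], w ∈ closure ({u, v} : Set G) → ∀ o ∈ O, π (o * w) ^ 3 = 1 := fun w hw d o ho => by
    rw [q.mul (c.le o ho) (h.cD d)]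
    refine PS4.cube_fpf (by rw [← q.map_pow (h.cD d), h.d3 d, q.map_one]) (fun n hn a => ?_)
      (q.mem_im_of ho (c.le o ho))
    obtain ⟨n, hn', cn, rfl⟩ := q.mem_im.1 hn
    exact (q.eq_one_iff_two h.s2 cn).2 (h.core_mem c hn' (hu w hw n cn
      (q.comm_of_comm cn (h.cD d) a (h.d3 d) (by rw [h.os]; norm_num))))
  have f := engel (a := π a) (b := π b) (by rw [← q.map_pow as, a3, q.map_one])
    (by rw [← q.map_pow bs, b3, q.map_one]) (by rw [← q.mul as bs, e, k u (by simp) mem_l o ho])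
    (by rw [← q.map_inv bs, ← q.mul as bs.inv_left, e', k v (by simp) mem_r o' ho'])
  have l : π ⁅a, b⁆ = ⁅π a, π b⁆ := map_commutatorElement q.hom ⟨a, mem_cent.2 as⟩ ⟨b, mem_cent.2 bs⟩
  exact q.comm_of_comm as bs (commutatorElement_eq_one_iff_commute.1 (not_mem2
    ((isPGroup_subgroupOf c.two _).map q.hom) (l ▸ q.mem_im_of m (c.le _ m)) f)) b3 (by rw [h.os]; norm_num)

end D2

end Cfsg.Agent.L43
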