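import Cfsg.Agent.G23.AmP
import Cfsg.Agent.Class.LinearBasic

/-! Centralisers of shape `3^{1+4} : SL₂(3)` with two natural chief factors in the `3`-core. -/

set_option autoImplicit false
set_option maxRecDepth 100000
set_option synthInstance.maxHeartbeats 400000
set_option synthInstance.maxSize 4000

namespace Cfsg.Agent.L43

open Subgroup Cfsg Cfsg.Agent.PLocal Cfsg.Agent.PLocal.Amb Cfsg.Agent.Loc3
open Cfsg.Agent.G23.Am (M2 card_pow one_of_sq mem_of_sq le_of_three)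
open scoped commutatorElement

theorem k1 : ∀ x : Matrix (Fin 1) (Fin 1) (ZMod 3), x ^ 3 = 1 → ∀ y,
    y ^ 4 = 1 → (x * y) ^ 3 = 1 → y = 1 := by decide +kernel

theorem k2 : ∀ x : M2, x ^ 3 = 1 → ∀ y, y ^ 4 = 1 → (x * y) ^ 3 = 1 →
    y * y * x = x * (y * y) → y = 1 ∨ y * y = -1 := by decide +kernel

theorem k3 : ∀ (i j : Fin 2) (h : i ≠ j) (c : ZMod 3),
    Matrix.SpecialLinearGroup.transvection h c ^ 3 = 1 := by decide +kernel

theorem key {W : Type*} [AddCommGroup W] [Finite W] (hW : Nat.card W ∣ 9) (h3 : ∀ w : W, 3 • w = 0)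
    {σ ν : Module.End ℤ W} (s3 : σ ^ 3 = 1) (n4 : ν ^ 4 = 1) (c : (σ * ν) ^ 3 = 1)
    (d : ν * ν * σ = σ * (ν * ν)) : ν = 1 ∨ (Nat.card W = 9 ∧ ν * ν = -1) := by
  letI := AddCommGroup.zmodModule h3
  have := Fact.mk Nat.prime_three
  have e := Module.natCard_eq_pow_finrank (K := ZMod 3) (V := W)
  rw [Nat.card_zmod] at e
  obtain ⟨k, hk'⟩ : ∃ k, Module.finrank (ZMod 3) W = k := ⟨_, rfl⟩
  let b := Module.finBasisOfFinrankEq (ZMod 3) W hk'
  rw [hk'] at e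
  let f : Module.End ℤ W →+* Module.End (ZMod 3) W :=
    { toFun := fun a => a.toAddMonoidHom.toZModLinearMap 3
      map_one' := rfl, map_mul' := fun _ _ => rfl, map_zero' := rfl, map_add' := fun _ _ => rfl }
  let g := (LinearMap.toMatrixAlgEquiv b).toRingEquiv.toRingHom.comp f
  have i : Function.Injective g := (LinearMap.toMatrixAlgEquiv b).injective.comp fun x y h =>
    LinearMap.ext fun w => LinearMap.congr_fun h w
  have hk : k ≤ 2 := (Nat.pow_dvd_pow_iff_le_right (by decide : 1 < 3)).1 (e ▸ hW)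
  have s3' := congrArg g s3
  have n4' := congrArg g n4
  have c' := congrArg g c
  have d' := congrArg g d
  rw [← i.eq_iff, ← i.eq_iff, e]
  simp only [map_mul, map_pow, map_one, map_neg] at s3' n4' c' d' ⊢
  generalize g σ = x, g ν = y at *
  clear_value b
  interval_cases k
  · exact Or.inl (Subsingleton.elim _ _)
  · exact Or.inl (k1 x s3' y n4' c')
  · exact (k2 x s3' y n4' c' d').imp_right fun a => ⟨rfl, a⟩

variable {G : Type*} [Group G]

/-- the hypotheses, without the action of the central involution -/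
structure Ex0 (z : G) (Q : Subgroup G) (π : G → M2) : Prop where
  z3 : z ^ 3 = 1
  z1 : z ≠ 1
  zQ : z ∈ Q
  cQ : Nat.card Q = 243
  cC : Nat.card (centralizer ({z} : Set G)) = 5832
  ex : ∀ {q}, q ∈ Q → q ^ 3 = 1
  cm : ∀ {p q}, p ∈ Q → q ∈ Q → ⁅p, q⁆ ∈ zpowers z
  cen : ∀ g, (∀ q ∈ Q, Commute g q) → g ∈ zpowers z
  cz : ∀ {q}, q ∈ Q → Commute q z
  nQ : 𝐍[zpowers z] ≤ 𝐍[Q]
  mul : ∀ {g h}, Commute g z → Commute h z → π (g * h) = π g * π h
  ker : ∀ {g}, Commute g z → (π g = 1 ↔ g ∈ Q)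
  det : ∀ {g}, Commute g z → (π g).det = 1
  surj : ∀ m : M2, m.det = 1 → ∃ g, Commute g z ∧ π g = m

/-- the hypotheses on the centraliser of `z` -/
structure Ex (z : G) (Q : Subgroup G) (π : G → M2) : Prop extends Ex0 z Q π where
  inv : ∀ {g q}, Commute g z → π g = -1 → q ∈ Q → q * (g * q * g⁻¹) ∈ zpowers z

namespace Ex0

variable {z : G} {Q : Subgroup G} {π : G → M2} (h : Ex0 z Q π) {a b g p q x y w n t : G}
include h

theorem one : π 1 = 1 := (h.ker (Commute.one_left z)).2 Q.one_mem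

theorem pow (hg : Commute g z) (k : ℕ) : π (g ^ k) = π g ^ k := by
  induction k with
  | zero => simpa using h.one
  | succ k ih => rw [pow_succ, h.mul (hg.pow_left k) hg, ih, pow_succ]

theorem eq_of (ha : Commute a z) (hb : Commute b z) (e : π a = π b) : a⁻¹ * b ∈ Q :=
  (h.ker (ha.inv_left.mul_left hb)).1 (by
    rw [h.mul ha.inv_left hb, ← e, ← h.mul ha.inv_left ha, inv_mul_cancel, h.one])

theorem ZQ : zpowers z ≤ Q := zpowers_le.2 h.zQ

theorem nz (hg : Commute g z) : g ∈ 𝐍[zpowers z] :=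
  centralizer_le_normalizer' _ (Amb.centralizer_zpowers z ▸ mem_cent.2 hg)

theorem cj (hg : Commute g z) (hq : q ∈ Q) : g * q * g⁻¹ ∈ Q :=
  conj_mem_of_mem_normalizer (h.nQ (h.nz hg)) hq

theorem cZ : Nat.card (zpowers z) = 3 := by rw [Nat.card_zpowers, orderOf_three h.z3 h.z1]

theorem fac [Finite G] {U U₀ : Subgroup G} (h0 : zpowers z ≤ U₀) (h1 : U₀ < U) (h2 : U ≤ Q)
    (n0 : ∀ k, Commute k z → ∀ a ∈ U₀, k * a * k⁻¹ ∈ U₀)
    (n1 : ∀ k, Commute k z → ∀ a ∈ U, k * a * k⁻¹ ∈ U)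
    (mx : ∀ B, U₀ < B → B < U → ∃ k, Commute k z ∧ ∃ b ∈ B, k * b * k⁻¹ ∉ B)
    (nc : ∃ k, Commute k z ∧ ∃ a ∈ U, k * a * k⁻¹ * a⁻¹ ∉ U₀) (c : Nat.card U ∣ 9 * Nat.card U₀) :
    Nat.card U = 9 * Nat.card U₀ ∧
      ∀ g, Commute g z → π g = -1 → ∀ x ∈ U, x * (g * x * g⁻¹) ∈ U₀ := by
  have s : SecHyp (centralizer {z}) U U₀ := ⟨h1.le, commutator_le.2 fun a ha b hb =>
    h0 (h.cm (h2 ha) (h2 hb)), fun k hk => mem_normalizer_fintype (n1 k (mem_cent.1 hk)),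
    fun k hk => mem_normalizer_fintype (n0 k (mem_cent.1 hk))⟩
  have r : ∀ a b : centralizer {z}, π a = π b → Sec.rep s a = Sec.rep s b := fun a b e => by
    rw [← mul_one (Sec.rep s a), ← (Sec.rep_eq_one_iff s (a⁻¹ * b)).2 fun x hx =>
      h0 (h.cm (h.eq_of (mem_cent.1 a.2) (mem_cent.1 b.2) e) (h2 hx)), ← map_mul, mul_inv_cancel_left]
  have m : ∀ a b : centralizer {z}, π (a * b :) = π a * π b := fun a b =>
    h.mul (mem_cent.1 a.2) (mem_cent.1 b.2)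
  have p : ∀ (a : centralizer {z}) k, π (a ^ k :) = π a ^ k := fun a => h.pow (mem_cent.1 a.2)
  have o : π (1 : centralizer ({z} : Set G)) = 1 := h.one
  obtain ⟨y, hy, ey⟩ := h.surj !![1, 1; 0, 1] (by decide)
  obtain ⟨n, hn, en⟩ := h.surj !![0, 1; -1, 0] (by decide)
  lift y to centralizer ({z} : Set G) using mem_cent.2 hy
  lift n to centralizer ({z} : Set G) using mem_cent.2 hn
  have w3 : ∀ w : Sec s, 3 • w = 0 := fun w => by
    obtain ⟨x, a, rfl⟩ := Sec.exists_pr_eq s w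
    rw [← Sec.pr_pow s a, h.ex (h2 a), Sec.pr_one]
  have s3 : Sec.rep s y ^ 3 = 1 := by
    rw [← map_pow, r _ 1 (by rw [p, ey, o]; decide), map_one]
  rcases key (Nat.dvd_of_mul_dvd_mul_right Nat.card_pos (Sec.card_mul s ▸ c)) w3 s3
    (ν := Sec.rep s n) (by rw [← map_pow, r _ 1 (by rw [p, en, o]; decide), map_one])
    (by rw [← map_mul, ← map_pow, r _ 1 (by rw [p, m, ey, en, o]; decide), map_one])
    (by simp only [← map_mul]; exact r _ _ (by simp only [m, ey, en]; decide)) with e | ⟨e, f⟩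
  · have k : ∀ a : centralizer {z}, ∃ i, Sec.rep s a = Sec.rep s y ^ i := fun a => by
      obtain ⟨i, j, l, b⟩ := (by decide +kernel : ∀ a : M2, a.det = 1 → ∃ (i : Fin 3) (j : Fin 4)
        (l : Fin 3), a = !![1, 1; 0, 1] ^ i.1 * !![0, 1; -1, 0] ^ j.1 * !![1, 1; 0, 1] ^ l.1) _
        (h.det (mem_cent.1 a.2))
      exact ⟨i + l, by rw [r a (y ^ i.1 * n ^ j.1 * y ^ l.1) (by rw [m, m, p, p, p, ey, en, b]), map_mul,
        map_mul, map_pow, map_pow, map_pow, e, one_pow, mul_one, pow_add]⟩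
    obtain ⟨g, hg, a, ha, na⟩ := nc
    have ne : Sec.rep s y - 1 ≠ 0 := fun f => na ((Sec.rep_eq_one_iff s ⟨g, mem_cent.2 hg⟩).1 (by
      obtain ⟨i, b⟩ := k ⟨g, mem_cent.2 hg⟩
      rw [b, sub_eq_zero.1 f, one_pow]) a ha)
    obtain ⟨w, w0, w1⟩ : ∃ w, w ≠ 0 ∧ (Sec.rep s y - 1) w = 0 := by
      by_contra! f
      have i : Function.Injective (Sec.rep s y - 1 : Module.End ℤ _) :=
        (injective_iff_map_eq_zero _).2 fun w a => by_contra fun b => f w b a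
      refine ne (LinearMap.ext fun w => i (i ?_))
      have : (Sec.rep s y - 1) * (Sec.rep s y - 1) * (Sec.rep s y - 1) =
          Sec.rep s y ^ 3 - 1 - 3 • (Sec.rep s y * Sec.rep s y - Sec.rep s y) := by noncomm_ring
      have := LinearMap.congr_fun this w
      simpa [s3, w3] using this
    obtain ⟨x, hx, rfl⟩ := Sec.exists_pr_eq s w
    obtain ⟨k', c', b, hb, nb⟩ := mx (Sec.grp s (LinearMap.ker (Sec.rep s y - 1)))
      (lt_of_le_not_ge (Sec.le_grp s _) fun f => w0 ((Sec.pr_eq_zero s hx).2 (f ⟨hx, w1⟩)))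
      (lt_of_le_not_ge (Sec.grp_le s _) fun f => ne (LinearMap.ext fun w => by
        obtain ⟨x, hx, rfl⟩ := Sec.exists_pr_eq s w
        exact (f hx).2))
    refine (nb ⟨n1 _ c' _ hb.1, ?_⟩).elim
    obtain ⟨i, f⟩ := k ⟨k', mem_cent.2 c'⟩
    rw [← Sec.rep_pr' s (mem_cent.2 c') hb.1, f, LinearMap.mem_ker, ← Module.End.mul_apply,
      (((Commute.refl _).sub_left (Commute.one_left _)).pow_right i).eq, Module.End.mul_apply,
      LinearMap.mem_ker.1 hb.2, map_zero]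
  · refine ⟨by rw [← Sec.card_mul s, e], fun g hg e x hx => ?_⟩
    have m' := n1 g hg x hx
    rw [← Sec.pr_eq_zero s (mul_mem hx m'), Sec.pr_mul s hx m', ← Sec.rep_pr' s (mem_cent.2 hg) hx,
      r _ (n * n) (by rw [m, en]; exact e.trans (by decide)), map_mul, f]
    simp

theorem nine [Finite G] {U U₀ : Subgroup G} (h0 : zpowers z ≤ U₀) (h1 : U₀ < U) (h2 : U ≤ Q)
    (n0 : ∀ k, Commute k z → ∀ a ∈ U₀, k * a * k⁻¹ ∈ U₀)
    (n1 : ∀ k, Commute k z → ∀ a ∈ U, k * a * k⁻¹ ∈ U)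
    (mx : ∀ B, U₀ < B → B < U → ∃ k, Commute k z ∧ ∃ b ∈ B, k * b * k⁻¹ ∉ B)
    (nc : ∃ k, Commute k z ∧ ∃ a ∈ U, k * a * k⁻¹ * a⁻¹ ∉ U₀) : 9 * Nat.card U₀ ≤ Nat.card U := by
  obtain ⟨k, e⟩ := card_dvd_of_le h1.le
  have p := @Nat.card_pos U₀ _ _
  obtain ⟨i, -, rfl⟩ := (Nat.dvd_prime_pow Nat.prime_three (m := 5)).1
    ((Dvd.intro_left _ e.symm).trans (h.cQ ▸ card_dvd_of_le h2 :))
  rcases i with _ | _ | i
  · exact absurd (eq_of_le_of_card_ge h1.le (by omega)) h1.ne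
  · exact (h.fac h0 h1 h2 n0 n1 mx nc ⟨3, by rw [e]; ring⟩).1.ge
  · rw [e, mul_comm]
    exact Nat.mul_le_mul_left _ (Nat.pow_le_pow_right (n := 3) (by decide) (by omega : 2 ≤ _))

theorem chain [Finite G] {r : ℕ} {A : Fin (r + 1) → Subgroup G} (a0 : A 0 = zpowers z)
    (ar : A (Fin.last r) = Q) (mo : ∀ i : Fin r, A i.castSucc < A i.succ)
    (iv : ∀ i k, Commute k z → ∀ a ∈ A i, k * a * k⁻¹ ∈ A i)
    (mx : ∀ (i : Fin r) B, A i.castSucc < B → B < A i.succ →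
      ∃ k, Commute k z ∧ ∃ b ∈ B, k * b * k⁻¹ ∉ B) {i j : Fin r} (ij : i < j)
    (hi : ∃ k, Commute k z ∧ ∃ a ∈ A i.succ, k * a * k⁻¹ * a⁻¹ ∉ A i.castSucc)
    (hj : ∃ k, Commute k z ∧ ∃ a ∈ A j.succ, k * a * k⁻¹ * a⁻¹ ∉ A j.castSucc) : Ex z Q π := by
  have m := (Fin.strictMono_iff_lt_succ.2 mo).monotone
  have l0 : ∀ i, zpowers z ≤ A i := fun i => a0 ▸ m (Fin.zero_le i)
  have l1 : ∀ i, A i ≤ Q := fun i => ar ▸ m (Fin.le_last i)
  have l2 : A i.succ ≤ A j.castSucc := m (Fin.succ_le_castSucc_iff.2 ij)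
  have b1 := h.nine (l0 _) (mo i) (l1 _) (iv _) (iv _) (mx i) hi
  have b2 := h.nine (l0 _) (mo j) (l1 _) (iv _) (iv _) (mx j) hj
  have c0 := card_le_of_le (l0 i.castSucc)
  have c1 := card_le_of_le (l1 j.succ)
  have c2 := card_le_of_le l2
  have := h.cZ
  have := h.cQ
  have e0 := eq_of_le_of_card_ge (l0 i.castSucc) (by omega)
  have e1 := eq_of_le_of_card_ge (l1 j.succ) (by omega)
  have e2 := eq_of_le_of_card_ge l2 (by omega)
  have f1 := (h.fac (l0 _) (mo i) (l1 _) (iv _) (iv _) (mx i) hi (dvd_of_eq (by omega))).2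
  have f2 := (h.fac (l0 _) (mo j) (l1 _) (iv _) (iv _) (mx j) hj (dvd_of_eq (by omega))).2
  rw [← e0] at f1
  rw [e1, ← e2] at f2
  refine ⟨h, fun {g q} hg e hq => ?_⟩
  have g2 : g * g ∈ Q := (h.ker (hg.mul_left hg)).1 (by rw [h.mul hg hg, e]; simp)
  have m1 := h.cj hg hq
  have a := f1 g hg e _ (f2 g hg e q hq)
  have b := h.cm g2 hq
  refine mem_of_sq (k := 1) (h.ex (mul_mem hq m1)) ?_
  convert mul_mem (mul_mem a (conj_mem_of_mem_normalizer (h.nz ((h.cz hq).inv_left)) (inv_mem b)))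
    (h.cm (inv_mem hq) (inv_mem m1)) using 1
  simp only [commutatorElement_def]
  group

end Ex0

theorem exists_ex [Finite G] (S : Sylow 3 G) {Z C Q K : Subgroup G}
    (hZ : Z = (S : Subgroup G) ⊓ 𝐂[(S : Subgroup G)]) (hC : C = 𝐂[Z]) (hQ : Q = pCoreOf 3 C) (ex : IsExtraspecial 3 Q) (cQ : Nat.card Q = 3 ^ 5)
    (e3 : ∀ a ∈ Q, a ^ 3 = 1) (CQ : 𝐂[Q] ≤ Q) {x : G} (x1 : cj(x, Z) ≤ Q) (x2 : cj(x, Z) ≠ Z)
    (hK : K = ((pResidual 2 (C ⧸ pCore 3 C)).comap (QuotientGroup.mk' (pCore 3 C))).map C.subtype)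
    (e : C ⧸ pCore 3 C ≃* Matrix.SpecialLinearGroup (Fin 2) (ZMod 3)) :
    ∃ z π, Ex0 z Q π ∧ Z = zpowers z ∧ (∀ k, k ∈ K ↔ Commute k z) ∧ x * z * x⁻¹ ∈ Q ∧
      x * z * x⁻¹ ∉ zpowers z := by
  classical
  have := Fact.mk Nat.prime_three
  have SC : (S : Subgroup G) ≤ C := hC ▸ le_centralizer_iff.1 (hZ ▸ inf_le_right)
  have QS : Q ≤ S := hQ ▸ (isSyl_of_le S SC).pCoreOf_le
  have ZC : Z ≤ 𝐂[Q] := (hZ ▸ inf_le_right : Z ≤ _).trans (centralizer_le QS)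
  have mz : ∀ g, g ∈ (center Q).map Q.subtype ↔ g ∈ 𝐂[Q] := fun g =>
    ⟨fun ⟨a, b, c⟩ y hy => c ▸ congrArg Subtype.val (mem_center_iff.1 b ⟨y, hy⟩), fun a =>
      ⟨⟨g, CQ a⟩, mem_center_iff.2 fun y => Subtype.ext (a y y.2), rfl⟩⟩
  have c3 : Nat.card 𝐂[Q] = 3 := by
    rw [← Subgroup.ext mz, card_map_of_injective Q.subtype_injective, ex.2]
  obtain ⟨z, hz, z1⟩ := Z.bot_or_exists_ne_one.resolve_left (by rintro rfl; simp at x2)
  have z3 := e3 z (CQ (ZC hz))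
  have ez : zpowers z = 𝐂[Q] := eq_of_le_of_card_ge (zpowers_le.2 (ZC hz)) (by
    rw [Nat.card_zpowers, orderOf_three z3 z1, c3])
  obtain rfl : Z = zpowers z := le_antisymm (ez ▸ ZC) (zpowers_le.2 hz)
  rw [Amb.centralizer_zpowers] at hC
  have mQ : ∀ g : C, g ∈ pCore 3 C ↔ g.1 ∈ Q := fun g => by
    rw [hQ, ← pCoreOf_subgroupOf, mem_subgroupOf]
  have top : pResidual 2 (C ⧸ pCore 3 C) = ⊤ := eq_top_iff.2 fun x _ => by
    simpa using (Class.SL_eq_top_of_transvection_mem ((pResidual 2 _).comap e.symm.toMonoidHom)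
      fun i j h c => subset_closure (show (orderOf (e.symm _)).Coprime 2 by
        rw [MulEquiv.orderOf_eq]
        exact Nat.Coprime.of_dvd_left (orderOf_dvd_of_pow_eq_one (k3 i j h c)) (by decide))).ge (mem_top (e x))
  subst hC
  refine ⟨z, fun g => if h : Commute g z then (e (QuotientGroup.mk ⟨g, mem_cent.2 h⟩) :) else 1,
    ⟨z3, z1, CQ (ZC hz), cQ, ?_, e3 _, fun {p q} a b => ?_, fun g a => ez.ge fun q b => (a q b).symm,
      fun a => (ZC hz _ a), ?_, fun {g k} a b => ?_, fun {g} a => ?_, fun {g} a => by simp [a],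
      fun m a => ?_⟩, rfl, fun k => by simp [hK, top, mem_cent], x1 ⟨z, hz, rfl⟩, fun a => x2 ?_⟩
  · have := card_eq_card_quotient_mul_card_subgroup (pCore 3 (centralizer {z}))
    rw [Nat.card_congr e.toEquiv, ← Subgroup.card_map_of_injective (subtype_injective _)] at this
    rw [this, show Subgroup.map _ _ = Q from hQ.symm, cQ, Nat.card_eq_fintype_card]
    decide +kernel
  · exact ez.ge ((mz _).1 ⟨⁅⟨p, a⟩, ⟨q, b⟩⁆, ex.1.2.2.le (commutator_mem_commutator (mem_top _)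
      (mem_top _)), rfl⟩)
  · exact hQ ▸ ((normalizer_le_normalizer_centralizer _).trans_eq (by
      rw [Amb.centralizer_zpowers])).trans (normalizer_le_normalizer_pCoreOf 3 _)
  · simp only [a, b, a.mul_left b, dif_pos, ← Matrix.SpecialLinearGroup.coe_mul, ← map_mul]; rfl
  · rw [dif_pos a]
    exact (Subtype.ext_iff.symm.trans e.map_eq_one_iff).trans
      ((QuotientGroup.eq_one_iff _).trans (mQ ⟨g, mem_cent.2 a⟩))
  · obtain ⟨x, b⟩ := e.surjective ⟨m, a⟩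
    obtain ⟨g, rfl⟩ := QuotientGroup.mk_surjective x
    exact ⟨g, mem_cent.1 g.2, by simp [mem_cent.1 g.2, b]⟩
  · exact eq_of_le_of_card_ge (by rw [MonoidHom.map_zpowers]; exact zpowers_le.2 a) (card_cj _ _).ge

end Cfsg.Agent.L43
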