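import Cfsg.Agent.L43.Nine
import Cfsg.Agent.L43.Core

/-! The centraliser of the involution `T`. -/

set_option autoImplicit false
set_option maxRecDepth 100000
set_option synthInstance.maxHeartbeats 400000
set_option synthInstance.maxSize 4000

namespace Cfsg.Agent.L43

open Subgroup Cfsg Cfsg.Agent.PLocal Cfsg.Agent.PLocal.Amb Cfsg.Agent.Loc3 Cfsg.Agent.Comp
open Cfsg.Agent.G23.Am (M2 mem_of_sq cjk card_seg seg_le)
open Cfsg.Agent.X32 (TG)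
open Cfsg.Agent.X32.TG Cfsg.Agent.LES Cfsg.Agent.Loc3.Pr
open scoped commutatorElement

variable {G : Type*} [Group G] {φ : K →* G} {g m : G} {k : K}

/-- generators of a subgroup of the table group -/
def Rk (U : Subgroup K) (gs : List K) : Prop :=
  ∀ k ∈ U, k = 1 ∨ ∃ g ∈ gs, g⁻¹ * k ∈ U ∧ (g⁻¹ * k).v < k.v

theorem Rk.le {U H : Subgroup K} {gs : List K} (h : Rk U gs) (a : ∀ g ∈ gs, g ∈ H) : U ≤ H := by
  intro k hk
  induction hn : k.v using Nat.strong_induction_on generalizing k with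
  | _ n ih =>
    rcases h k hk with rfl | ⟨g, hg, b, c⟩
    exacts [H.one_mem, (H.mul_mem_cancel_left (inv_mem (a g hg))).1 (ih _ (hn ▸ c) b rfl)]

theorem Rk.nrm [Finite G] {U : Subgroup K} {gs : List K} (h : Rk U gs)
    (a : ∀ k ∈ gs, ∃ l ∈ U, Cj φ g k l) : g ∈ 𝐍[U.map φ] := mem_normalizer_fintype (by
  rintro _ ⟨k, b, rfl⟩
  exact h.le (H := ((U.map φ).comap (MulAut.conj g).toMonoidHom).comap φ)
    (fun k c => (a k c).imp fun l d => ⟨d.1, Eq.symm d.2⟩) b)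

theorem rkJ : Rk sJ [Z, V, B, Y] := by unfold Rk; exact bd!

theorem rkA : Rk sA [Z, V, A] := by unfold Rk; exact bd!

noncomputable abbrev sE : Subgroup K := sJ ⊓ centralizer {T}

theorem eE : closure {φ (Z * Y), φ (Z * Y⁻¹)} = sE.map φ := by
  rw [← Set.image_pair, ← MonoidHom.map_closure]
  exact congrArg _ (Subgroup.ext fun k => (mem_pair bd! bd! bd!).trans ((bd! : ∀ k : K, (∃ x ∈ [1, Z * Y,
    (Z * Y)⁻¹], ∃ y ∈ [1, Z * Y⁻¹, (Z * Y⁻¹)⁻¹], k = x * y) ↔ k ∈ sE) k))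

/-- the subgroup with the given elements -/
def lsub (l : List K) (h : 1 ∈ l ∧ ∀ a ∈ l, ∀ b ∈ l, a * b⁻¹ ∈ l) : Subgroup K where
  carrier := {k | k ∈ l}
  one_mem' := h.1
  inv_mem' := fun {a} ha => by simpa using h.2 1 h.1 a ha
  mul_mem' := fun {a b} ha hb => by simpa using h.2 a ha _ (h.2 1 h.1 b hb)

instance bdL (k : K) (l : List K) (h) {b : Bool} [a : X32.BD (k ∈ l) b] : X32.BD (k ∈ lsub l h) b := a

theorem hsO : 1 ∈ (es [0, 729, 2916, 3159, 7047, 7533, 7776, 8262] : List K) ∧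
    ∀ a ∈ (es [0, 729, 2916, 3159, 7047, 7533, 7776, 8262] : List K),
      ∀ b ∈ (es [0, 729, 2916, 3159, 7047, 7533, 7776, 8262] : List K),
        a * b⁻¹ ∈ (es [0, 729, 2916, 3159, 7047, 7533, 7776, 8262] : List K) := bd!

noncomputable abbrev sO : Subgroup K := lsub _ hsO

theorem locG_of' [Finite G] {J : Subgroup G} {s y : G} (s2 : s * s = 1) (c : Commute s y)
    (h : ∀ g, Commute g s → Commute g y → g ∈ 𝐍[J]) : LocG J s y := by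
  refine ⟨zpowers s, isPGroup_zpowers ⟨1, by simpa [pow_two]⟩, mem_zpowers s, fun o ho => ?_,
    fun g a b => ⟨mem_normalizer_fintype fun o ho => ?_, 1, one_mem _, g, h g a b, by simp⟩⟩ <;>
    obtain ⟨n, rfl⟩ := mem_zpowers_iff.1 ho
  · exact ⟨Commute.zpow_self s n, c.zpow_left n⟩
  · rw [conj_of_comm (a.zpow_right n)]; exact ho

/-- a chart with its second Weyl element -/
structure Mm (φ : K →* G) (m : G) : Prop extends Ch φ, Wy φ m where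
  b : Cj φ m B Y

variable [Finite G]

namespace Ch

variable (h : Ch φ)
include h

theorem exMm : ∃ (ψ : K →* G) (m : G), Mm ψ m ∧ ψ Z = φ Z ∧ ψ B = φ B := by
  obtain ⟨m, w, y, a, b⟩ := h.exWy
  have k := (bd! : ∀ y ∈ [Y, Y * Z, Y * Z⁻¹], (∀ k ∈ List.range PK.inv.length, tup [N, N⁻¹, y, y⁻¹, R, V, V⁻¹,
    B, B⁻¹] (PK.I k) * tup [N, N⁻¹, y, y⁻¹, R, V, V⁻¹, B, B⁻¹] k = 1) ∧
    ∀ r ∈ PK.rels, BN.ev (tup [N, N⁻¹, y, y⁻¹, R, V, V⁻¹, B, B⁻¹]) r = 1) y a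
  obtain ⟨α, z, v, a, b', c, y', t, r, s⟩ := exists_aut k (z := Z) (a := A) (c := C) bd!
  refine ⟨φ.comp α, m, ⟨h.aut (Or.inl z) (by simpa [z, v, a, b', c] using bd!) (v.symm ▸ h.cv), ⟨?_, ?_, ?_, ?_, ?_, ?_⟩,
    ?_⟩, congrArg φ z, congrArg φ b'⟩ <;> simp only [Cj, MonoidHom.comp_apply, map_inv, z, v, a, b', y', t, r, s]
  exacts [w.z, w.v.trans (map_inv φ Z), w.a, w.t, w.r, w.sq, b]

theorem cW' (c : Commute g (φ (V * B⁻¹))) : g ∈ 𝐍[sJ.map φ] := by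
  obtain ⟨α, z, v, a, b, c', y, -⟩ := exists_aut (y := Y) (v := V) (b := B⁻¹) bd! (z := Z⁻¹) (a := A)
    (c := C⁻¹) bd!
  have h' := h.aut (Or.inr z) (by simpa [z, v, a, b, c'] using bd!) (v.symm ▸ h.cv)
  have e := h'.cW (g := g) (by simpa [v, b] using c)
  rwa [← map_map, eq_of_le_of_card_ge (map_le_iff_le_comap.2 (rkJ.le (by simpa [z, v, b, y] using bd!)))
    (Subgroup.card_map_of_injective (Function.Injective.of_comp h'.inj)).ge] at e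

theorem sylC (a : k ∈ sS ∧ ∀ l, Commute l k → l * l ∈ sS) (b : ∀ g ∈ 𝐍[(sS ⊓ centralizer {k}).map φ],
    ∃ l, φ l = g) : IsSyl 3 ((sS ⊓ centralizer {k}).map φ) (centralizer {φ k}) := by
  refine isSyl_of_isSyl_normalizer ⟨le_inf ?_ le_normalizer, h.pg inf_le_left, fun R p _ c x d => ?_⟩
  · rintro _ ⟨l, c, rfl⟩
    exact mem_cent.2 ((mem_cent.1 c.2).map φ)
  obtain ⟨l, rfl⟩ := b x (c d).2
  have e := h.cm (mem_cent.1 (c d).1)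
  obtain ⟨n, f⟩ := isPGroup_iff.1 p _ d
  obtain ⟨j, i⟩ := (by decide : Odd 3).pow (n := n)
  exact mem_of_sq (i ▸ f) ⟨l * l, ⟨a.2 l e, mem_cent.2 (e.mul_left e)⟩, map_mul φ l l⟩

theorem nWW : ¬ IsConj (φ (V * B)) (φ (V * B⁻¹)) := fun c => by
  have k : ∀ g u, ⁅u, ⁅u, Y⁆⁆ = Z ∨ ⁅u, ⁅u, Y⁆⁆ = Z⁻¹ →
      g * φ u * g⁻¹ ∈ (sS ⊓ centralizer {V * B⁻¹}).map φ →
      g * φ Y * g⁻¹ ∈ (sS ⊓ centralizer {V * B⁻¹}).map φ → ∃ l, φ l = g := by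
    rintro g u a ⟨p, b, d⟩ ⟨q, e, f⟩
    have i : Cj φ g ⁅u, ⁅u, Y⁆⁆ ⁅p, ⁅p, q⁆⁆ := by
      simp only [Cj, map_commutatorElement, d, f, conjugate_commutatorElement]
    have j := (bd! : ∀ p ∈ sS, Commute p (V * B⁻¹) → ∀ q ∈ sS, Commute q (V * B⁻¹) → ⁅p, ⁅p, q⁆⁆ ∈ sZ) p b.1
      (mem_cent.1 b.2) q e.1 (mem_cent.1 e.2)
    rcases a with a | a <;> rw [a] at i
    exacts [h.rz' i j, h.rz' (i.inv.cong ⟨inv_inv Z, rfl⟩) (inv_mem j)]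
  obtain ⟨g, c⟩ := isConj_iff.1 c
  obtain ⟨x, a, b⟩ := (h.sylC (k := V * B⁻¹) bd! fun g a => k g (A * C⁻¹) bd! (conj_mem_of_mem_normalizer a
    (mem_map_of_mem φ bd!)) (conj_mem_of_mem_normalizer a (mem_map_of_mem φ bd!))).exists_cj_le
    (isPGroup_cj g (h.pg (inf_le_left (b := centralizer {V * B})))) (by
      rintro _ ⟨_, ⟨l, a, rfl⟩, rfl⟩
      exact mem_cent.2 (c ▸ Commute.cj ((mem_cent.1 a.2).map φ) g))
  have n : ∀ u ∈ sS ⊓ centralizer {V * B}, x * g * φ u * (x * g)⁻¹ ∈ (sS ⊓ centralizer {V * B⁻¹}).map φ :=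
    fun u d => by simpa [mul_assoc] using b (conj_mem_cj x (conj_mem_cj g (mem_map_of_mem φ d)))
  obtain ⟨l, e⟩ := k (x * g) (A * C) bd! (n _ bd!) (n _ bd!)
  exact (bd! : ∀ l, l * (V * B) * l⁻¹ ≠ V * B⁻¹) l
    (h.eq (e ▸ Cj.comp c (Cj.of_comm (mem_cent.1 a))))

end Ch

namespace Mm

variable (h : Mm φ m)
include h

omit [Finite G] in
theorem y : Cj φ m Y B⁻¹ := by
  simpa [Cj, mul_assoc] using (h.b.symm.comp (h.sq ▸ Cj.of (bd! : S * B * S⁻¹ = B⁻¹)) :)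

theorem nJ : m ∈ 𝐍[sJ.map φ] := rkJ.nrm (by
  simp only [List.forall_mem_cons]
  exact ⟨⟨_, bd!, h.z⟩, ⟨_, bd!, h.v⟩, ⟨_, bd!, h.b⟩, ⟨_, bd!, h.y⟩, by simp⟩)

theorem nA : m ∈ 𝐍[sA.map φ] := rkA.nrm (by
  simp only [List.forall_mem_cons]
  exact ⟨⟨_, bd!, h.z⟩, ⟨_, bd!, h.v⟩, ⟨_, bd!, h.a⟩, by simp⟩)

theorem no2 (H : Subgroup G) : H.index ≠ 2 := fun i => by
  have nm := H.normal_of_index_eq_two i
  have c : ∀ k, k ^ 3 = 1 → φ k ∈ H := fun k a =>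
    mem_of_sq (k := 1) (by rw [← map_pow, a, map_one]) (H.mul_self_mem_of_index_two i _)
  have n : φ N ∈ H := by
    rw [(bd! : N = Y⁻¹ * (Y * N)), map_mul]; exact mul_mem (c _ bd!) (c _ bd!)
  have r : φ.range ≤ H := by
    rintro _ ⟨k, rfl⟩
    refine X32.range_le_of_gen linkK.top (fun k hk => ?_) k
    have : k < 9 := hk
    interval_cases k
    exacts [n, map_inv φ N ▸ inv_mem n, c _ bd!, c _ bd!, h.t ▸ nm.conj_mem _
      (by rw [(bd! : T = N * N), map_mul]; exact mul_mem n n) m, c _ bd!, c _ bd!, c _ bd!, c _ bd!]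
  rw [show H = ⊤ from eq_top_iff.2 fun g _ => by
    obtain ⟨n, a, x, b, rfl⟩ := (h.syl.mono ((map_le_range φ _).trans r) le_top).frattini (mem_nrm H g)
    exact mul_mem a (r (h.nS b)), index_top] at i
  omega

theorem n1 : ¬ IsConj (φ Z) (φ (Z * Y)) := fun c => h.nW (by simp) (c.trans (h.z.mul h.y).isConj)

theorem n2 : ¬ IsConj (φ Z) (φ (Z * Y⁻¹)) := fun c =>
  h.nW (by simp) (c.trans ((h.z.mul h.y.inv).cong ⟨rfl, congrArg _ (inv_inv B)⟩).isConj)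

theorem n3 : ¬ IsConj (φ (Z * Y)) (φ (Z * Y⁻¹)) := fun c => h.nWW
  (((h.z.mul h.y.inv).cong ⟨rfl, congrArg _ (inv_inv B)⟩).isConj.symm.trans
    (c.symm.trans (h.z.mul h.y).isConj))

theorem fE {l : K} (hl : l ∈ sE) (k1 : k ≠ 1) (c : IsConj (φ k) (φ l)) :
    ∃ w ∈ [Z, Y, Z * Y, Z * Y⁻¹], (l = w ∨ l = w⁻¹) ∧ IsConj (φ k) (φ w) := by
  obtain ⟨w, a, b, i, -, e⟩ := ((bd! : ∀ l ∈ sE, l = 1 ∨ ∃ w ∈ [Z, Y, Z * Y, Z * Y⁻¹], (l = w ∨ l = w⁻¹) ∧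
    ∃ i ∈ [1, R], i * l * i⁻¹ = w) l hl).resolve_left (by
      rintro rfl; exact h.ne1 k1 (isConj_one_left.1 (map_one φ ▸ c)))
  exact ⟨w, a, b, c.trans (Cj.of e).isConj⟩

theorem nE (a : g ∈ 𝐍[sE.map φ]) : (∃ k, φ k = g) ∨ Cj φ g Z Y ∨ Cj φ g Z Y⁻¹ := by
  obtain ⟨l, b, c⟩ := conj_mem_of_mem_normalizer a (mem_map_of_mem φ (bd! : Z ∈ sE))
  obtain ⟨w, d, e, f⟩ := h.fE b bd! (isConj_iff.2 ⟨g, c.symm⟩)
  have j : ∀ {w}, l = w → Cj φ g Z w := fun e => e ▸ c.symm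
  simp only [List.mem_cons, List.not_mem_nil, or_false] at d
  rcases d with rfl | rfl | rfl | rfl
  exacts [Or.inl (h.rz (e.imp j j)), Or.inr (e.imp j j), absurd f h.n1, absurd f h.n2]

theorem d2 : D2 (φ T) (φ (Z * Y)) (φ (Z * Y⁻¹)) (φ R) := by
  have c3 : ∀ k, k ^ 3 = 1 → φ k ^ 3 = 1 := fun k a => by rw [← map_pow, a, map_one]
  refine ⟨by rw [← map_mul, (bd! : T * T = 1), map_one], h.ne1 bd!, c3 _ bd!, c3 _ bd!,
    Commute.map bd! φ, Commute.map bd! φ, Commute.map bd! φ, h.ne1 bd!, by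
      simpa [mem_zpowers_three (c3 (Z * Y⁻¹) bd!), ← map_inv, h.inj.eq_iff, map_eq_one_iff _ h.inj,
        -map_mul, -mul_inv_rev] using bd!, fun g a b c => ?_, fun n a b => ?_, Commute.map bd! φ,
    (cjk bd!).trans (map_inv ..), (cjk bd!).trans (map_inv ..)⟩
  · obtain ⟨k, rfl⟩ := h.cz (g := g) (by
      simpa only [← map_mul, ← map_inv, (bd! : (Z * Y * (Z * Y⁻¹))⁻¹ = Z)] using (b.mul_right c).inv_right)
    rw [eE, ← map_mul]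
    exact ((bd! : ∀ k, Commute k T → Commute k (Z * Y) → Commute k (Z * Y⁻¹) → k ∈ sE ∨ k * T ∈ sE) k
      (h.cm a) (h.cm b) (h.cm c)).imp (mem_map_of_mem φ) (mem_map_of_mem φ)
  rw [eE] at b
  have k : ∀ w ∈ sE, ∃ l ∈ sE, Cj φ n w l := fun w c =>
    (conj_mem_of_mem_normalizer b (mem_map_of_mem φ c)).imp fun l d => ⟨d.1, d.2.symm⟩
  rcases h.nE b with ⟨i, rfl⟩ | c
  · obtain ⟨l, c, d⟩ := k Y bd!
    simpa only [← map_inv, ← map_mul, h.inj.eq_iff] using (bd! : ∀ i, Commute i T → i * Y * i⁻¹ ∈ sE →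
      (i * (Z * Y) * i⁻¹ = Z * Y ∨ i * (Z * Y) * i⁻¹ = (Z * Y)⁻¹) ∧ (i * (Z * Y⁻¹) * i⁻¹ = Z * Y⁻¹ ∨
        i * (Z * Y⁻¹) * i⁻¹ = (Z * Y⁻¹)⁻¹)) i (h.cm a) (h.eq d ▸ c)
  have zy : IsConj (φ Z) (φ Y) := c.elim Cj.isConj fun c => c.isConj.trans (Cj.of (k := R) bd!).isConj
  constructor
  all_goals
    first
    | obtain ⟨l, c, d⟩ := k (Z * Y) bd!; rw [d]
    | obtain ⟨l, c, d⟩ := k (Z * Y⁻¹) bd!; rw [d]
    obtain ⟨w, i, e, f⟩ := h.fE c bd! d.isConj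
    simp only [List.mem_cons, List.not_mem_nil, or_false] at i
    rcases i with rfl | rfl | rfl | rfl
  exacts [absurd f.symm h.n1, absurd (zy.trans f.symm) h.n1, by rcases e with rfl | rfl <;> simp,
    absurd f h.n3, absurd f.symm h.n2, absurd (zy.trans f.symm) h.n2, absurd f.symm h.n3,
    by rcases e with rfl | rfl <;> simp]

theorem cE {w : G} (hw : w ∈ [φ (Z * Y), φ (Z * Y⁻¹)]) (g : G) (a : Commute g (φ T)) (b : Commute g w) :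
    g ∈ 𝐍[closure {φ (Z * Y), φ (Z * Y⁻¹)}] := by
  have n : m * g * m⁻¹ ∈ 𝐍[sJ.map φ] := by
    rcases List.mem_pair.1 hw with rfl | rfl
    exacts [h.cW' ((h.z.mul h.y) ▸ Commute.cj b m), h.cW (((h.z.mul h.y.inv).cong
      ⟨rfl, congrArg _ (inv_inv B)⟩) ▸ Commute.cj b m)]
  rw [mul_mem_cancel_right (inv_mem h.nJ), mul_mem_cancel_left h.nJ] at n
  rw [eE]
  refine mem_normalizer_fintype ?_
  rintro _ ⟨k, c, rfl⟩
  obtain ⟨l, d, e⟩ := conj_mem_of_mem_normalizer n (mem_map_of_mem φ c.1)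
  exact ⟨l, ⟨d, mem_cent.2 (h.cm (e ▸ (a.mul_left ((mem_cent.1 c.2).map φ)).mul_left a.inv_left))⟩, e⟩

theorem locZ : LocG (closure {φ (Z * Y), φ (Z * Y⁻¹)}) (φ T) (φ Z) := by
  refine ⟨sO.map φ, isPGroup_iff.2 ?_, mem_map_of_mem φ bd!, ?_, fun g a b => ?_⟩
  · rintro _ ⟨k, a, rfl⟩
    exact ⟨2, by rw [← map_pow, (bd! : ∀ k ∈ sO, k ^ 2 ^ 2 = 1) k a, map_one]⟩
  · rintro _ ⟨k, a, rfl⟩
    exact ((bd! : ∀ k ∈ sO, Commute k T ∧ Commute k Z) k a).imp (·.map φ) (·.map φ)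
  obtain ⟨k, rfl⟩ := h.cz b
  obtain ⟨c, o, d, e⟩ := (bd! : ∀ k, Commute k T → Commute k Z → (∀ o ∈ sO, k * o * k⁻¹ ∈ sO) ∧
    ∃ o ∈ sO, o⁻¹ * k ∈ sE) k (h.cm a) (h.cm b)
  exact ⟨G23.mem_nrm φ c, _, mem_map_of_mem φ d, _, eE (φ := φ) ▸ le_normalizer (mem_map_of_mem φ e), by simp⟩

theorem core (hY : LocG (closure {φ (Z * Y), φ (Z * Y⁻¹)}) (φ T) (φ Y)) :
    ∃ O, Co (closure {φ (Z * Y), φ (Z * Y⁻¹)}) (φ T) O := h.d2.core fun y a b => by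
  obtain ⟨l, c, rfl⟩ := eE.le a
  obtain ⟨w, d, e, -⟩ := h.fE c (fun e => b (by rw [e, map_one])) (IsConj.refl _)
  have : LocG (closure {φ (Z * Y), φ (Z * Y⁻¹)}) (φ T) (φ w) := by
    simp only [List.mem_cons, List.not_mem_nil, or_false] at d
    rcases d with rfl | rfl | rfl | rfl
    exacts [h.locZ, hY, locG_of' h.d2.s2 h.d2.us.symm (h.cE (by simp)),
      locG_of' h.d2.s2 h.d2.vs.symm (h.cE (by simp))]
  rcases e with rfl | rfl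
  exacts [this, map_inv φ w ▸ this.inv]

theorem cent_le (hY : LocG (closure {φ (Z * Y), φ (Z * Y⁻¹)}) (φ T) (φ Y)) {M : Subgroup G}
    (hK : ∀ k, Commute k T → φ k ∈ M) (hy : ∀ g, Commute g (φ T) → Commute g (φ Y) ∨ Cj φ g Z Y ∨
      Cj φ g Z Y⁻¹ → g ∈ M) (hg : Commute g (φ T)) : g ∈ M := by
  obtain ⟨O, c⟩ := h.core hY
  have n : ∀ g ∈ 𝐍[closure {φ (Z * Y), φ (Z * Y⁻¹)}], Commute g (φ T) → g ∈ M := fun g a b => by
    rcases h.nE (eE (φ := φ) ▸ a) with ⟨k, rfl⟩ | d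
    exacts [hK k (h.cm b), hy g b (Or.inr d)]
  refine h.d2.cent_le c n (fun g a b => ?_) hg
  rcases b with b | b | b | b
  exacts [n g (h.cE (by simp) g a b) a, n g (h.cE (by simp) g a b) a, by
    rw [← map_mul, (bd! : Z * Y * (Z * Y⁻¹) = Z⁻¹), map_inv, Commute.inv_right_iff] at b
    obtain ⟨k, rfl⟩ := h.cz b
    exact hK k (h.cm a), by
    rw [← map_inv, ← map_mul, (bd! : Z * Y * (Z * Y⁻¹)⁻¹ = Y⁻¹), map_inv, Commute.inv_right_iff] at b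
    exact hy g a (Or.inl b)]

end Mm

end Cfsg.Agent.L43
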