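import Cfsg.Agent.U43.Cert

set_option autoImplicit false
set_option Elab.async false
set_option maxRecDepth 100000

namespace Cfsg.Agent.L43

open Cfsg.Agent.Comp.BN

def PH : Pres := ⟨[1, 0, 3, 2, 4],
  [[0, 0, 0, 0],
   [2, 2, 2],
   [2, 0, 2, 0, 2, 0],
   [0, 0, 2, 1, 1, 3],
   [4, 0, 4, 0],
   [4, 2, 4, 2]]⟩

namespace A0
noncomputable def m0_0 : ℕ := nat_lit 0x10ac09

noncomputable def m0_1 : ℕ := nat_lit 0xd350005f3

noncomputable def m0_2 : ℕ := nat_lit 0x2602901e009

noncomputable def m0_3 : ℕ := nat_lit 0x1c0183104142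

noncomputable def m0_4 : ℕ := nat_lit 0x1241008

noncomputable def m0_5 : ℕ := nat_lit 0x82092492092

noncomputable def m0_6 : ℕ := nat_lit 0x41208201041

noncomputable def m0_7 : ℕ := nat_lit 0x184080006000

noncomputable def m0_8 : ℕ := nat_lit 0x803a01c004

noncomputable def m0_9 : ℕ := nat_lit 0x32e000bce

noncomputable def m0_10 : ℕ := nat_lit 0x8aa902

noncomputable def net0 : Net := (.cons 24 m0_0 (.cons 12 m0_1 (.cons 6 m0_2 (.cons 3 m0_3 (.cons 1 m0_4 (.cons 1 m0_5 (.cons 1 m0_6 (.cons 3 m0_7 (.cons 6 m0_8 (.cons 12 m0_9 (.cons 24 m0_10 .nil)))))))))))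

theorem ok0 : Net.ok 48 net0 = true :=
  by decide +kernel

noncomputable def net1 : Net := (.cons 24 m0_10 (.cons 12 m0_9 (.cons 6 m0_8 (.cons 3 m0_7 (.cons 1 m0_6 (.cons 1 m0_5 (.cons 1 m0_4 (.cons 3 m0_3 (.cons 6 m0_2 (.cons 12 m0_1 (.cons 24 m0_0 .nil)))))))))))

theorem ok1 : Net.ok 48 net1 = true :=
  by decide +kernel

noncomputable def m2_0 : ℕ := nat_lit 0x215141

noncomputable def m2_1 : ℕ := nat_lit 0x454000a4a

noncomputable def m2_2 : ℕ := nat_lit 0x28016013025

noncomputable def m2_3 : ℕ := nat_lit 0x86001084147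

noncomputable def m2_4 : ℕ := nat_lit 0x201000000001

noncomputable def m2_5 : ℕ := nat_lit 0x482012092482

noncomputable def m2_6 : ℕ := nat_lit 0x40040049040

noncomputable def m2_7 : ℕ := nat_lit 0x104000180006

noncomputable def m2_8 : ℕ := nat_lit 0x402400c000

noncomputable def m2_9 : ℕ := nat_lit 0x3200000dc

noncomputable def m2_10 : ℕ := nat_lit 0x88100a

noncomputable def net2 : Net := (.cons 24 m2_0 (.cons 12 m2_1 (.cons 6 m2_2 (.cons 3 m2_3 (.cons 1 m2_4 (.cons 1 m2_5 (.cons 1 m2_6 (.cons 3 m2_7 (.cons 6 m2_8 (.cons 12 m2_9 (.cons 24 m2_10 .nil)))))))))))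

theorem ok2 : Net.ok 48 net2 = true :=
  by decide +kernel

noncomputable def net3 : Net := (.cons 24 m2_10 (.cons 12 m2_9 (.cons 6 m2_8 (.cons 3 m2_7 (.cons 1 m2_6 (.cons 1 m2_5 (.cons 1 m2_4 (.cons 3 m2_3 (.cons 6 m2_2 (.cons 12 m2_1 (.cons 24 m2_0 .nil)))))))))))

theorem ok3 : Net.ok 48 net3 = true :=
  by decide +kernel

noncomputable def m4_0 : ℕ := nat_lit 0x424dc8

noncomputable def m4_1 : ℕ := nat_lit 0x4c000f55

noncomputable def m4_2 : ℕ := nat_lit 0x3203f011007

noncomputable def m4_3 : ℕ := nat_lit 0xc61041801c5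

noncomputable def m4_4 : ℕ := nat_lit 0x41208041201

noncomputable def m4_5 : ℕ := nat_lit 0x492410482412

noncomputable def m4_6 : ℕ := nat_lit 0x41249201009

noncomputable def m4_7 : ℕ := nat_lit 0x86104180180

noncomputable def m4_8 : ℕ := nat_lit 0x22000036024

noncomputable def m4_9 : ℕ := nat_lit 0x1440000aa

noncomputable def m4_10 : ℕ := nat_lit 0x72cc80

noncomputable def net4 : Net := (.cons 24 m4_0 (.cons 12 m4_1 (.cons 6 m4_2 (.cons 3 m4_3 (.cons 1 m4_4 (.cons 1 m4_5 (.cons 1 m4_6 (.cons 3 m4_7 (.cons 6 m4_8 (.cons 12 m4_9 (.cons 24 m4_10 .nil)))))))))))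

theorem ok4 : Net.ok 48 net4 = true :=
  by decide +kernel

noncomputable def nets : List Net := [net0, net1, net2, net3, net4]

noncomputable def act : Act := netAct' nets
noncomputable def π : ℕ → Equiv.Perm ℕ := netPerm nets

theorem spec : act.Spec 48 π :=
  spec_fast (netAct_spec (AllP.forall (p := fun t => Net.ok 48 t = true) ⟨ok0, ok1, ok2, ok3, ok4, trivial⟩))

theorem out : ∀ k, 5 ≤ k → π k = 1 :=
  netPerm_out nets

theorem sat_inv_0 : invC Cfsg.Agent.L43.A0.act Cfsg.Agent.L43.PH.I 48 6 Cfsg.Agent.L43.PH.inv.length [0, 1, 2, 3, 4, 5] = true :=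
  by decide +kernel

theorem sat_inv : ∀ k, Cfsg.Agent.L43.A0.π (Cfsg.Agent.L43.PH.I k) * Cfsg.Agent.L43.A0.π k = 1 :=
  inv_of_checks Cfsg.Agent.L43.A0.spec (K := 6) (by decide) Cfsg.Agent.L43.A0.out [[0, 1, 2, 3, 4, 5]] (by decide) ⟨sat_inv_0, trivial⟩

theorem sat_rel_0_0 : relsC Cfsg.Agent.L43.A0.act Cfsg.Agent.L43.PH.I 48 6 [[0, 0, 0, 0], [2, 2, 2], [2, 0, 2, 0, 2, 0], [0, 0, 2, 1, 1, 3], [4, 0, 4, 0], [4, 2, 4, 2]] [0, 1, 2, 3, 4, 5] = true :=
  by decide +kernel

theorem sat_rel_0 : ∀ r ∈ ([[0, 0, 0, 0], [2, 2, 2], [2, 0, 2, 0, 2, 0], [0, 0, 2, 1, 1, 3], [4, 0, 4, 0], [4, 2, 4, 2]] : List (List ℕ)), ev Cfsg.Agent.L43.A0.π r = 1 :=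
  rels_of_checks Cfsg.Agent.L43.A0.spec (K := 6) (by decide) sat_inv _ [[0, 1, 2, 3, 4, 5]] (by decide) ⟨sat_rel_0_0, trivial⟩

theorem sat_rel : ∀ r ∈ ([[0, 0, 0, 0], [2, 2, 2], [2, 0, 2, 0, 2, 0], [0, 0, 2, 1, 1, 3], [4, 0, 4, 0], [4, 2, 4, 2]] : List (List ℕ)), ev Cfsg.Agent.L43.A0.π r = 1 :=
  rels_join [[[0, 0, 0, 0], [2, 2, 2], [2, 0, 2, 0, 2, 0], [0, 0, 2, 1, 1, 3], [4, 0, 4, 0], [4, 2, 4, 2]]] ⟨sat_rel_0, trivial⟩

theorem sat : Sat Cfsg.Agent.L43.PH Cfsg.Agent.L43.A0.π :=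
  ⟨Cfsg.Agent.L43.A0.out, sat_inv, sat_rel⟩

noncomputable def done_tr0 : ℕ := nat_lit 0xfffebb6db6ea

noncomputable def done_tr1 : ℕ := nat_lit 0x14048a448c

noncomputable def done_tr2 : ℕ := nat_lit 0xffebf9349b30

noncomputable def done_t0_0 : ℕ := nat_lit 0xb009b0224d99

noncomputable def done_t0_1 : ℕ := nat_lit 0xa2bbdbede24

noncomputable def done_t0_2 : ℕ := nat_lit 0xf5d440000000

noncomputable def done_t1_0 : ℕ := nat_lit 0xdac40258119b

noncomputable def done_t1_1 : ℕ := nat_lit 0xfcc8b7dbe60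

noncomputable def done_t1_2 : ℕ := nat_lit 0xf03370000000

noncomputable def done_t2_0 : ℕ := nat_lit 0x4143d141e047

noncomputable def done_t2_1 : ℕ := nat_lit 0x3de839779b30

noncomputable def done_t2_2 : ℕ := nat_lit 0xce03c6800000

noncomputable def done_t3_0 : ℕ := nat_lit 0xeb02e870047

noncomputable def done_t3_1 : ℕ := nat_lit 0xf0f2b9ec96a8

noncomputable def done_t3_2 : ℕ := nat_lit 0x3f0c06006000

noncomputable def done_t4_0 : ℕ := nat_lit 0x1546db6ddf

noncomputable def done_t4_1 : ℕ := nat_lit 0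

noncomputable def done_t4_2 : ℕ := nat_lit 0

noncomputable def doneC : TC := ⟨Cfsg.Agent.L43.PH, [], 48, 48, 6, 3, [done_tr0, done_tr1, done_tr2],
  [[done_t0_0, done_t0_1, done_t0_2],
   [done_t1_0, done_t1_1, done_t1_2],
   [done_t2_0, done_t2_1, done_t2_2],
   [done_t3_0, done_t3_1, done_t3_2],
   [done_t4_0, done_t4_1, done_t4_2]]⟩

theorem done_s : doneC.structC Cfsg.Agent.L43.A0.act = true :=
  by decide +kernel

theorem done_c0_0 : doneC.coverC Cfsg.Agent.L43.A0.act 0 true [(0, 0), (12, 1)] [(false, 2, 1, 0), (false, 2, 1, 3), (false, 2, 1, 4), (false, 2, 1, 7), (false, 2, 1, 8), (false, 6, 1, 17), (false, 6, 1, 16), (false, 9, 0, 11), (false, 9, 0, 30), (false, 9, 1, 4), (false, 10, 1, 2), (false, 10, 2, 0), (false, 10, 2, 16)] 0 (ones 48) = true :=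
  by decide +kernel

theorem done_j0 : doneC.JustS Cfsg.Agent.L43.A0.π 0 (ones 48) :=
  TC.cover_step Cfsg.Agent.L43.A0.spec done_s (TC.justS_zero 0) done_c0_0

theorem done_c1_0 : doneC.coverC Cfsg.Agent.L43.A0.act 1 true [(1, 0), (13, 0)] [(false, 2, 0, 1), (false, 2, 0, 6), (false, 2, 0, 13), (false, 2, 0, 16), (false, 2, 0, 22), (false, 2, 0, 25), (false, 7, 0, 32), (false, 7, 0, 30), (false, 9, 3, 0), (false, 9, 3, 16), (false, 9, 4, 2), (false, 10, 4, 4), (false, 10, 5, 11), (false, 10, 5, 30)] 0 (ones 48) = true :=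
  by decide +kernel

theorem done_j1 : doneC.JustS Cfsg.Agent.L43.A0.π 1 (ones 48) :=
  TC.cover_step Cfsg.Agent.L43.A0.spec done_s (TC.justS_zero 1) done_c1_0

theorem done_c2_0 : doneC.coverC Cfsg.Agent.L43.A0.act 2 true [(3, 0), (15, 1)] [(false, 8, 1, 0), (false, 8, 1, 1), (false, 8, 1, 2), (false, 8, 1, 6), (false, 8, 1, 13), (false, 8, 1, 14), (false, 6, 0, 23), (false, 6, 0, 22), (false, 6, 0, 13), (false, 6, 0, 14)] 0 (ones 48) = true :=
  by decide +kernel

theorem done_j2 : doneC.JustS Cfsg.Agent.L43.A0.π 2 (ones 48) :=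
  TC.cover_step Cfsg.Agent.L43.A0.spec done_s (TC.justS_zero 2) done_c2_0

theorem done_c3_0 : doneC.coverC Cfsg.Agent.L43.A0.act 3 true [(4, 0), (16, 0)] [(false, 8, 0, 3), (false, 8, 0, 7), (false, 8, 0, 10), (false, 8, 0, 19), (false, 8, 0, 34), (false, 8, 0, 36), (false, 7, 1, 11), (false, 7, 1, 8), (false, 7, 1, 4), (false, 7, 1, 20)] 0 (ones 48) = true :=
  by decide +kernel

theorem done_j3 : doneC.JustS Cfsg.Agent.L43.A0.π 3 (ones 48) :=
  TC.cover_step Cfsg.Agent.L43.A0.spec done_s (TC.justS_zero 3) done_c3_0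

theorem done_c4_0 : doneC.coverC Cfsg.Agent.L43.A0.act 4 true [(14, 0)] [] 0 (ones 48) = true :=
  by decide +kernel

theorem done_j4 : doneC.JustS Cfsg.Agent.L43.A0.π 4 (ones 48) :=
  TC.cover_step Cfsg.Agent.L43.A0.spec done_s (TC.justS_zero 4) done_c4_0

theorem done : doneC.Done Cfsg.Agent.L43.A0.π :=
  TC.done_of Cfsg.Agent.L43.A0.spec sat done_s ⟨done_j0, done_j1, done_j2, done_j3, done_j4, trivial⟩

end A0

theorem bH : Bound PH 48 :=
  A0.done.bound_bot rfl

def PK : Pres := ⟨[1, 0, 3, 2, 4, 6, 5, 8, 7],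
  [[0, 0, 0, 0],
   [2, 2, 2],
   [2, 0, 2, 0, 2, 0],
   [0, 0, 2, 1, 1, 3],
   [4, 0, 4, 0],
   [4, 2, 4, 2],
   [4, 5, 4, 6],
   [4, 7, 4, 8],
   [5, 7, 6, 8],
   [2, 0, 5, 1, 3, 5, 0, 6, 1],
   [2, 1, 7, 0, 3, 1, 8, 0, 8],
   [2, 5, 3, 6],
   [2, 7, 3, 8],
   [0, 0, 5, 1, 1, 5]]⟩

namespace A1
noncomputable def m0_0 : ℕ := nat_lit 0x926f757d903e943031d5f1b9ddc0a430

noncomputable def m0_1 : ℕ := nat_lit 0x7f6fc497a0daaf8b0000000000000000cfce44d4194de36a

noncomputable def m0_2 : ℕ := nat_lit 0xa51417b400000000fb10651b00000000ba33780e000000007ad18b1a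

noncomputable def m0_3 : ℕ := nat_lit 0x4cbb000020040000e2310000230d000046df0000ffaa0000a1d400004c12

noncomputable def m0_4 : ℕ := nat_lit 0x3001600a800cb00a000360065005200d600500024000f0079002f00e00012

noncomputable def m0_5 : ℕ := nat_lit 0x10e0d0600020c060c0e0a0e0c08060a0a000c0d0d0d060d0408020d030c0d06

noncomputable def m0_6 : ℕ := nat_lit 0x3211330001233002002230333302302331302012300203111230123102300200

noncomputable def m0_7 : ℕ := nat_lit 0x1114540114445114140115154114044514114554515045015400105105104410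

noncomputable def m0_8 : ℕ := nat_lit 0x200020222000020200200202022000020002002000000000200000200000220

noncomputable def m0_9 : ℕ := nat_lit 0x4020800020006040e000c080e08060a0400060002040e00040402060a080408

noncomputable def m0_10 : ℕ := nat_lit 0xc00050004000480050008c00460092003a005400b20048009c002400f80084

noncomputable def m0_11 : ℕ := nat_lit 0x3fae00005ec800007bc8000035000000bf700000f6280000a40400000430

noncomputable def m0_12 : ℕ := nat_lit 0x51505c7c00000000795c5f8000000000fc25bb20000000007e413090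

noncomputable def m0_13 : ℕ := nat_lit 0xed06397a906c8aa00000000000000000a7dff9a0b192a9a2

noncomputable def m0_14 : ℕ := nat_lit 0x926fdd4d64e09f6658bcb6263a5d1384

noncomputable def net0 : Net := (.cons 128 m0_0 (.cons 64 m0_1 (.cons 32 m0_2 (.cons 16 m0_3 (.cons 8 m0_4 (.cons 4 m0_5 (.cons 2 m0_6 (.cons 1 m0_7 (.cons 2 m0_8 (.cons 4 m0_9 (.cons 8 m0_10 (.cons 16 m0_11 (.cons 32 m0_12 (.cons 64 m0_13 (.cons 128 m0_14 .nil)))))))))))))))

theorem ok0 : Net.ok 256 net0 = true :=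
  by decide +kernel

noncomputable def net1 : Net := (.cons 128 m0_14 (.cons 64 m0_13 (.cons 32 m0_12 (.cons 16 m0_11 (.cons 8 m0_10 (.cons 4 m0_9 (.cons 2 m0_8 (.cons 1 m0_7 (.cons 2 m0_6 (.cons 4 m0_5 (.cons 8 m0_4 (.cons 16 m0_3 (.cons 32 m0_2 (.cons 64 m0_1 (.cons 128 m0_0 .nil)))))))))))))))

theorem ok1 : Net.ok 256 net1 = true :=
  by decide +kernel

noncomputable def m2_0 : ℕ := nat_lit 0xb046da1e81f00339931eca1e0773a7ba

noncomputable def m2_1 : ℕ := nat_lit 0x901fa96ff8e16bbe000000000000000017f7ea0bc17fd832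

noncomputable def m2_2 : ℕ := nat_lit 0xab5e3c6100000000d0639cad0000000007cbab1e000000006eaf077c

noncomputable def m2_3 : ℕ := nat_lit 0x615e0000b43e0000569c000017880000a5c600009710000074870000703e

noncomputable def m2_4 : ℕ := nat_lit 0x5b000500200082000e00b400ca006f004b009f0067007a003500be00d70094

noncomputable def m2_5 : ℕ := nat_lit 0x6050e09000a020806090c090b00030b07020d040408050a080e0f0602070506

noncomputable def m2_6 : ℕ := nat_lit 0x2311120110030233333202030110203013211120233313322020120213312312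

noncomputable def m2_7 : ℕ := nat_lit 0x401504140010411414044040404145550440441104014140041500444141104

noncomputable def m2_8 : ℕ := nat_lit 0x200000000000222200020000202000000020022002020020022000220000202

noncomputable def m2_9 : ℕ := nat_lit 0xe000408000a0000060000080a0c0a040c0e00000008040408040c0404080c02

noncomputable def m2_10 : ℕ := nat_lit 0x80020000000ae00fc00b000c400ac001c0092005a00c8002c00dc005200bc

noncomputable def m2_11 : ℕ := nat_lit 0xc91c0000847e00004e180000e7120000ab1200009cd40000722e0000e896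

noncomputable def m2_12 : ℕ := nat_lit 0xab11ec0400000000c96586b000000000170fc4120000000044361634

noncomputable def m2_13 : ℕ := nat_lit 0x101fe17d4158e3be00000000000000005c5ecb222aed1670

noncomputable def m2_14 : ℕ := nat_lit 0xb046da1d01700687c51eac9e156def9a

noncomputable def net2 : Net := (.cons 128 m2_0 (.cons 64 m2_1 (.cons 32 m2_2 (.cons 16 m2_3 (.cons 8 m2_4 (.cons 4 m2_5 (.cons 2 m2_6 (.cons 1 m2_7 (.cons 2 m2_8 (.cons 4 m2_9 (.cons 8 m2_10 (.cons 16 m2_11 (.cons 32 m2_12 (.cons 64 m2_13 (.cons 128 m2_14 .nil)))))))))))))))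

theorem ok2 : Net.ok 256 net2 = true :=
  by decide +kernel

noncomputable def net3 : Net := (.cons 128 m2_14 (.cons 64 m2_13 (.cons 32 m2_12 (.cons 16 m2_11 (.cons 8 m2_10 (.cons 4 m2_9 (.cons 2 m2_8 (.cons 1 m2_7 (.cons 2 m2_6 (.cons 4 m2_5 (.cons 8 m2_4 (.cons 16 m2_3 (.cons 32 m2_2 (.cons 64 m2_1 (.cons 128 m2_0 .nil)))))))))))))))

theorem ok3 : Net.ok 256 net3 = true :=
  by decide +kernel

noncomputable def m4_0 : ℕ := nat_lit 0x400000000000000000000000000000

noncomputable def m4_1 : ℕ := nat_lit 0x87e00000000000000000000000000000fffffffffe000000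

noncomputable def m4_2 : ℕ := nat_lit 0xffe00000000000003273867800000000fe00000000000000ffe67e00

noncomputable def m4_3 : ℕ := nat_lit 0x3be10000ffe0000091700000495f0000f13b00009e780000fe0000008be0

noncomputable def m4_4 : ℕ := nat_lit 0xba001b001b0056008c007e008f00a3003d00570025001f00e000ff00e00080

noncomputable def m4_5 : ℕ := nat_lit 0xa0806010601010a07020e0f060d0f0c030d0405010e0c01090f0000080f0700

noncomputable def m4_6 : ℕ := nat_lit 0x2001021203120000003020002100000123133330333331313222222232002120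

noncomputable def m4_7 : ℕ := nat_lit 0x4555555555554001005110004000004040104004000004015144444454005500

noncomputable def m4_8 : ℕ := nat_lit 0x2000000000000000000020000000002000002002000002020222222202000000

noncomputable def m4_9 : ℕ := nat_lit 0xe00040c040c0002000208000c00000608000c04000000080000000008000800

noncomputable def m4_10 : ℕ := nat_lit 0x7c00600060005000840018005e005000a800c2007000e000e0000000e00080

noncomputable def m4_11 : ℕ := nat_lit 0x71e00000ffe0000091700000b48000000ec400009e780000fe0000008be0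

noncomputable def m4_12 : ℕ := nat_lit 0xffe00000000000003273867800000000fe00000000000000ffe67e00

noncomputable def m4_13 : ℕ := nat_lit 0x87e00000000000000000000000000000fffffffffe000000

noncomputable def m4_14 : ℕ := nat_lit 0x400000000000000000000000000000

noncomputable def net4 : Net := (.cons 128 m4_0 (.cons 64 m4_1 (.cons 32 m4_2 (.cons 16 m4_3 (.cons 8 m4_4 (.cons 4 m4_5 (.cons 2 m4_6 (.cons 1 m4_7 (.cons 2 m4_8 (.cons 4 m4_9 (.cons 8 m4_10 (.cons 16 m4_11 (.cons 32 m4_12 (.cons 64 m4_13 (.cons 128 m4_14 .nil)))))))))))))))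

theorem ok4 : Net.ok 256 net4 = true :=
  by decide +kernel

noncomputable def m5_0 : ℕ := nat_lit 0x4218a40bbf13bf5561213e76ff5c9461

noncomputable def m5_1 : ℕ := nat_lit 0xc7f7255207e103c00000000000000000f03a5480d76f0808

noncomputable def m5_2 : ℕ := nat_lit 0xa6437de100000000c406f970000000003ec3fa6500000000277d5021

noncomputable def m5_3 : ℕ := nat_lit 0xdcc7000081e10000d5870000c40e000043e500003508000097470000a871

noncomputable def m5_4 : ℕ := nat_lit 0x2700850098003c008200fa008700ee005400e70089008100e1009500d50023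

noncomputable def m5_5 : ℕ := nat_lit 0x4010a090b0a090f0f080c09090d0e0604080d04080808070c080a08090d0208

noncomputable def m5_6 : ℕ := nat_lit 0x2331033322232130322322023333230310220310122332232223322100332023

noncomputable def m5_7 : ℕ := nat_lit 0x4110055141511040111454411541411414440451011145411405154040455000

noncomputable def m5_8 : ℕ := nat_lit 0x202020020022202002002000200220002020200222000000000200000

noncomputable def m5_9 : ℕ := nat_lit 0xa020c080e0406040c0008040000020404000a00000400040208040e00080400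

noncomputable def m5_10 : ℕ := nat_lit 0x5c0000009000d2000000bc008400f40030005000e000a00048000c00a60086

noncomputable def m5_11 : ℕ := nat_lit 0x9b28000001e0000023880000ac1c0000d96a0000e880000086b400009172

noncomputable def m5_12 : ℕ := nat_lit 0x2606dfe0000000008607c6e000000000eb36d440000000008a1e2040

noncomputable def m5_13 : ℕ := nat_lit 0x85e410e629e6a5000000000000000000e03ca1906f9e8880

noncomputable def m5_14 : ℕ := nat_lit 0x42190213de91feaae2607e6dd73bc852

noncomputable def net5 : Net := (.cons 128 m5_0 (.cons 64 m5_1 (.cons 32 m5_2 (.cons 16 m5_3 (.cons 8 m5_4 (.cons 4 m5_5 (.cons 2 m5_6 (.cons 1 m5_7 (.cons 2 m5_8 (.cons 4 m5_9 (.cons 8 m5_10 (.cons 16 m5_11 (.cons 32 m5_12 (.cons 64 m5_13 (.cons 128 m5_14 .nil)))))))))))))))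

theorem ok5 : Net.ok 256 net5 = true :=
  by decide +kernel

noncomputable def net6 : Net := (.cons 128 m5_14 (.cons 64 m5_13 (.cons 32 m5_12 (.cons 16 m5_11 (.cons 8 m5_10 (.cons 4 m5_9 (.cons 2 m5_8 (.cons 1 m5_7 (.cons 2 m5_6 (.cons 4 m5_5 (.cons 8 m5_4 (.cons 16 m5_3 (.cons 32 m5_2 (.cons 64 m5_1 (.cons 128 m5_0 .nil)))))))))))))))

theorem ok6 : Net.ok 256 net6 = true :=
  by decide +kernel

noncomputable def m7_0 : ℕ := nat_lit 0xfa1bd422a2d81d0977fe9c225732080c

noncomputable def m7_1 : ℕ := nat_lit 0xdbdd9c0112dd7d850000000000000000797454c509fc0a41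

noncomputable def m7_2 : ℕ := nat_lit 0xcb4c34d7000000008c60691c00000000a889b1550000000009382007

noncomputable def m7_3 : ℕ := nat_lit 0xc75e0000c2ba00009c880000aa0b00007da70000595a0000ffb00000d1ea

noncomputable def m7_4 : ℕ := nat_lit 0xc700bf00a000ee00e000cf00ed00da0058003a0040005d00a0007c00990025

noncomputable def m7_5 : ℕ := nat_lit 0xa030e0f01080b090409080b09020d0d080b010e090602000d0c0a080c0a0e01

noncomputable def m7_6 : ℕ := nat_lit 0x2333312212220303223203330212200230021212020321211231320322323222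

noncomputable def m7_7 : ℕ := nat_lit 0x1541411404541141145444150401505110140404444451011414110045411410

noncomputable def m7_8 : ℕ := nat_lit 0x2020200022200200022200002000200200200220000020222000020202020

noncomputable def m7_9 : ℕ := nat_lit 0x4020c0c0a020a04060808000000080a04080602080c060800020408020c0608

noncomputable def m7_10 : ℕ := nat_lit 0x88005c00c0001400ca009600d00080007400720018008a00d8007200b800c0

noncomputable def m7_11 : ℕ := nat_lit 0xa6cc00000f9600001e900000dd0a0000fd4a0000089a0000f74e0000836a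

noncomputable def m7_12 : ℕ := nat_lit 0xb2196a26000000003641eaf000000000919898c80000000089524088

noncomputable def m7_13 : ℕ := nat_lit 0x39c1310205e7eae800000000000000007cf42b6589f83e08

noncomputable def m7_14 : ℕ := nat_lit 0xfa1e3784445c115a5f7e532406e61a50

noncomputable def net7 : Net := (.cons 128 m7_0 (.cons 64 m7_1 (.cons 32 m7_2 (.cons 16 m7_3 (.cons 8 m7_4 (.cons 4 m7_5 (.cons 2 m7_6 (.cons 1 m7_7 (.cons 2 m7_8 (.cons 4 m7_9 (.cons 8 m7_10 (.cons 16 m7_11 (.cons 32 m7_12 (.cons 64 m7_13 (.cons 128 m7_14 .nil)))))))))))))))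

theorem ok7 : Net.ok 256 net7 = true :=
  by decide +kernel

noncomputable def net8 : Net := (.cons 128 m7_14 (.cons 64 m7_13 (.cons 32 m7_12 (.cons 16 m7_11 (.cons 8 m7_10 (.cons 4 m7_9 (.cons 2 m7_8 (.cons 1 m7_7 (.cons 2 m7_6 (.cons 4 m7_5 (.cons 8 m7_4 (.cons 16 m7_3 (.cons 32 m7_2 (.cons 64 m7_1 (.cons 128 m7_0 .nil)))))))))))))))

theorem ok8 : Net.ok 256 net8 = true :=
  by decide +kernel

noncomputable def nets : List Net := [net0, net1, net2, net3, net4, net5, net6, net7, net8]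

noncomputable def act : Act := netAct' nets
noncomputable def π : ℕ → Equiv.Perm ℕ := netPerm nets

theorem spec : act.Spec 256 π :=
  spec_fast (netAct_spec (AllP.forall (p := fun t => Net.ok 256 t = true) ⟨ok0, ok1, ok2, ok3, ok4, ok5, ok6, ok7, ok8, trivial⟩))

theorem out : ∀ k, 9 ≤ k → π k = 1 :=
  netPerm_out nets

theorem sat_inv_0 : invC Cfsg.Agent.L43.A1.act Cfsg.Agent.L43.PK.I 256 8 Cfsg.Agent.L43.PK.inv.length [0, 1, 2, 3, 4, 5, 6, 7] = true :=
  by decide +kernel

theorem sat_inv : ∀ k, Cfsg.Agent.L43.A1.π (Cfsg.Agent.L43.PK.I k) * Cfsg.Agent.L43.A1.π k = 1 :=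
  inv_of_checks Cfsg.Agent.L43.A1.spec (K := 8) (by decide) Cfsg.Agent.L43.A1.out [[0, 1, 2, 3, 4, 5, 6, 7]] (by decide) ⟨sat_inv_0, trivial⟩

theorem sat_rel_0_0 : relsC Cfsg.Agent.L43.A1.act Cfsg.Agent.L43.PK.I 256 8 [[0, 0, 0, 0], [2, 2, 2], [2, 0, 2, 0, 2, 0], [0, 0, 2, 1, 1, 3], [4, 0, 4, 0], [4, 2, 4, 2], [4, 5, 4, 6], [4, 7, 4, 8], [5, 7, 6, 8], [2, 0, 5, 1, 3, 5, 0, 6, 1], [2, 1, 7, 0, 3, 1, 8, 0, 8], [2, 5, 3, 6], [2, 7, 3, 8], [0, 0, 5, 1, 1, 5]] [0, 1, 2, 3, 4, 5, 6, 7] = true :=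
  by decide +kernel

theorem sat_rel_0 : ∀ r ∈ ([[0, 0, 0, 0], [2, 2, 2], [2, 0, 2, 0, 2, 0], [0, 0, 2, 1, 1, 3], [4, 0, 4, 0], [4, 2, 4, 2], [4, 5, 4, 6], [4, 7, 4, 8], [5, 7, 6, 8], [2, 0, 5, 1, 3, 5, 0, 6, 1], [2, 1, 7, 0, 3, 1, 8, 0, 8], [2, 5, 3, 6], [2, 7, 3, 8], [0, 0, 5, 1, 1, 5]] : List (List ℕ)), ev Cfsg.Agent.L43.A1.π r = 1 :=
  rels_of_checks Cfsg.Agent.L43.A1.spec (K := 8) (by decide) sat_inv _ [[0, 1, 2, 3, 4, 5, 6, 7]] (by decide) ⟨sat_rel_0_0, trivial⟩

theorem sat_rel : ∀ r ∈ ([[0, 0, 0, 0], [2, 2, 2], [2, 0, 2, 0, 2, 0], [0, 0, 2, 1, 1, 3], [4, 0, 4, 0], [4, 2, 4, 2], [4, 5, 4, 6], [4, 7, 4, 8], [5, 7, 6, 8], [2, 0, 5, 1, 3, 5, 0, 6, 1], [2, 1, 7, 0, 3, 1, 8, 0, 8], [2, 5, 3, 6], [2, 7, 3, 8], [0, 0, 5, 1, 1, 5]] : List (List ℕ)), ev Cfsg.Agent.L43.A1.π r = 1 :=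
  rels_join [[[0, 0, 0, 0], [2, 2, 2], [2, 0, 2, 0, 2, 0], [0, 0, 2, 1, 1, 3], [4, 0, 4, 0], [4, 2, 4, 2], [4, 5, 4, 6], [4, 7, 4, 8], [5, 7, 6, 8], [2, 0, 5, 1, 3, 5, 0, 6, 1], [2, 1, 7, 0, 3, 1, 8, 0, 8], [2, 5, 3, 6], [2, 7, 3, 8], [0, 0, 5, 1, 1, 5]]] ⟨sat_rel_0, trivial⟩

theorem sat : Sat Cfsg.Agent.L43.PK Cfsg.Agent.L43.A1.π :=
  ⟨Cfsg.Agent.L43.A1.out, sat_inv, sat_rel⟩

noncomputable def done_tr0 : ℕ := nat_lit 0x4aaae95969474d5355555554b4ce5594cad3332ab4b54d34d34b532b32d34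

noncomputable def done_tr1 : ℕ := nat_lit 0x155402000201f7fdffffe000d91360d9137bbbb55f5e69a69a141bb423046

noncomputable def done_tr2 : ℕ := nat_lit 0x1e7f9ffffe000d80360d8037dddc01e1e71c71c001dc044006

noncomputable def done_tr3 : ℕ := nat_lit 0x6001bdffbdfe000000001fff26649f26648000000001861861e1e00198798

noncomputable def done_t0_0 : ℕ := nat_lit 0x20010b4c3aa06769d3bbbbbade637b146437f3f1120c61d69b51ffb15c59b

noncomputable def done_t0_1 : ℕ := nat_lit 0x555026ec0c1453757955400f8f34d0bb53707645555bec3ee3c41e31c4454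

noncomputable def done_t0_2 : ℕ := nat_lit 0x40159cfbb4a3a48804849dc0dc0370d803690b655e1e1861a344022523200

noncomputable def done_t0_3 : ℕ := nat_lit 0x200000480000000000000000dc037088014002654c1208702544005501610

noncomputable def done_t0_4 : ℕ := nat_lit 0x6015bfb7bfffe7f9ecccdddf22248f26448f6d100001860840b0000080000

noncomputable def done_t1_0 : ℕ := nat_lit 0x6aa06d7c1d910dbb4622bbffdeaf6b34a8a5c6c892ac11c19949e3e93a59b

noncomputable def done_t1_1 : ℕ := nat_lit 0xaa0d89d2c5d0deafd5dc15f18ec8dd8effb732214a9ec07e4401e6122834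

noncomputable def done_t1_2 : ℕ := nat_lit 0x400b1ce2b5aae2000c485c90c84761d863680b021e1e1861a740064b44600

noncomputable def done_t1_3 : ℕ := nat_lit 0x200008002008000004000010d8476188614002220c1218402140000b00e10

noncomputable def done_t1_4 : ℕ := nat_lit 0x600bf5ffddf7e7f9e8ccddcf24209e22048f6d48a001861840aa000080000

noncomputable def done_t2_0 : ℕ := nat_lit 0x1e81bde7c21f9661861e1e1fc7fb05c23f000019b9990000019f801e01fe1

noncomputable def done_t2_1 : ℕ := nat_lit 0x2341bd87bc07fffdff81e1fefc47e4fabbfdddc59f5ef5d73de1fdc1dc79e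

noncomputable def done_t2_2 : ℕ := nat_lit 0x421e7de07c00000006001fe0019c00019800000980e000000000000000000

noncomputable def done_t2_3 : ℕ := nat_lit 0x21e3df97de00000018001e00198010180000005806000000000000000000

noncomputable def done_t2_4 : ℕ := nat_lit 0x7de1420002181806187fe01d02201a0444000012600102084000000000000

noncomputable def done_t3_0 : ℕ := nat_lit 0x60eb3fff0218799e763f80143bb8fc1e6060000986668010207e601e01fe1

noncomputable def done_t3_1 : ℕ := nat_lit 0x510bcf990df9fff9fec07e1fde677fdc5f7bbbbdbeff6faefbe1fba1ba79e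

noncomputable def done_t3_2 : ℕ := nat_lit 0x143de03de0000016001e0005d802019800000981e004002000000000000

noncomputable def done_t3_3 : ℕ := nat_lit 0x1e3de001e0000010801fe00198160018000005818000102000000000000

noncomputable def done_t3_4 : ℕ := nat_lit 0x7fe0c206c2061806097fe00e2000802220800012600080000000000000000

noncomputable def done_t4_0 : ℕ := nat_lit 0x399ffdfffff3ff801e1e000000000000001fe0199ffffffffff9e00001fe1

noncomputable def done_t4_1 : ℕ := nat_lit 0x207fffffbdfa07ffe0187fffffffffffffe001f5800000000010000001ffe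

noncomputable def done_t4_2 : ℕ := nat_lit 0x201fbdf3fdfa000000181fffffffffffffe000159ffffffffff1fffffe000

noncomputable def done_t4_3 : ℕ := nat_lit 0x4000000040080000001800000000000000000015800000000010000000000

noncomputable def done_t4_4 : ℕ := nat_lit 0x7fe0420c0205ffffffe7e00000000000001fffea60000000000e000000000

noncomputable def done_t5_0 : ℕ := nat_lit 0x69607de44200554255144661879a40060016767fe0a01961861e067e07821

noncomputable def done_t5_1 : ℕ := nat_lit 0xf377debb19b100611415e67b0f6dea7eec1010015d1871c7001f100181dc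

noncomputable def done_t5_2 : ℕ := nat_lit 0x509ebfe0c0054d5140001800919a4000881111000140010001e1e001fe024

noncomputable def done_t5_3 : ℕ := nat_lit 0x20003de0f194000001001e60919a58979a40000015f401041000110000600

noncomputable def done_t5_4 : ℕ := nat_lit 0x7ffec2140e615d57545541990600010000111100000040000000000000000

noncomputable def done_t6_0 : ℕ := nat_lit 0x786d3de0420a88aca88a39866999064861266effeb4a386387fe06ffe79e3

noncomputable def done_t6_1 : ℕ := nat_lit 0x3cf5bff4b07e2a0408a0b8796f959f27fca8800002a1a6186981e800787da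

noncomputable def done_t6_2 : ℕ := nat_lit 0x631c7de07c00b2aaa0000060499900211008888000a020000061e0019e1a2

noncomputable def done_t6_3 : ℕ := nat_lit 0x23de07c6a0000008019e049990669f92000000bea20020800088000000

noncomputable def done_t6_4 : ℕ := nat_lit 0x7fff420b0380baaeaa2aa6062060200000088880000000800000000000000

noncomputable def done_t7_0 : ℕ := nat_lit 0xfc023406b47f878019e1440d99b015d98fe1fb59ffe79d7db475fff77d77

noncomputable def done_t7_1 : ℕ := nat_lit 0x78c02592b07e7e01e7e1400e8041404409a01e8b81e0420405219a100800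

noncomputable def done_t7_2 : ℕ := nat_lit 0x186ce14069401783e0067454044000000001e000800100200008000000510

noncomputable def done_t7_3 : ℕ := nat_lit 0x40120800400000040006010000006018000000009e1e000080001fe001d10

noncomputable def done_t7_4 : ℕ := nat_lit 0x5ffeeb592b47f07ffff9f554ec441584439e1fff600114104557400110000

noncomputable def done_t8_0 : ℕ := nat_lit 0x372104260280778216398883c3bbe211bb61e1d941e0fbe69e0a001e66067

noncomputable def done_t8_1 : ℕ := nat_lit 0x3f0704a6d6b8707817a7eaa19a200802241e5bfbbe00824920b29fe088a80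

noncomputable def done_t8_2 : ℕ := nat_lit 0x33fa56a016a19f85ee400aaa000000080001a009001e00410008000000288

noncomputable def done_t8_3 : ℕ := nat_lit 0x20000000180000000000008000000051e1e004100001fe001a88

noncomputable def done_t8_4 : ℕ := nat_lit 0x3fff56a6d4b9f87df87feaab9a238ae2247e1ff2e0008a0822b6a00088000

noncomputable def doneC : TC := ⟨Cfsg.Agent.L43.PK, [[0], [1], [2], [3], [4]], 243, 256, 8, 5, [done_tr0, done_tr1, done_tr2, done_tr3],
  [[done_t0_0, done_t0_1, done_t0_2, done_t0_3, done_t0_4],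
   [done_t1_0, done_t1_1, done_t1_2, done_t1_3, done_t1_4],
   [done_t2_0, done_t2_1, done_t2_2, done_t2_3, done_t2_4],
   [done_t3_0, done_t3_1, done_t3_2, done_t3_3, done_t3_4],
   [done_t4_0, done_t4_1, done_t4_2, done_t4_3, done_t4_4],
   [done_t5_0, done_t5_1, done_t5_2, done_t5_3, done_t5_4],
   [done_t6_0, done_t6_1, done_t6_2, done_t6_3, done_t6_4],
   [done_t7_0, done_t7_1, done_t7_2, done_t7_3, done_t7_4],
   [done_t8_0, done_t8_1, done_t8_2, done_t8_3, done_t8_4]]⟩

theorem done_s : doneC.structC Cfsg.Agent.L43.A1.act = true :=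
  by decide +kernel

theorem done_c0_0 : doneC.coverC Cfsg.Agent.L43.A1.act 0 true [(2, 1), (0, 0), (12, 1), (6, 1), (40, 1)] [(true, 0, 0, 0), (false, 9, 0, 14), (false, 9, 0, 18), (false, 9, 0, 94), (false, 9, 0, 109), (false, 9, 0, 42), (false, 9, 0, 214), (false, 9, 0, 92), (false, 9, 0, 186), (false, 9, 0, 151), (false, 9, 1, 45), (false, 9, 1, 67), (false, 9, 1, 223), (false, 10, 1, 25), (false, 10, 1, 44), (false, 10, 1, 38), (false, 10, 1, 118), (false, 10, 2, 28), (false, 10, 2, 96), (false, 10, 2, 156), (false, 39, 0, 31), (false, 39, 0, 149), (false, 39, 0, 53), (false, 39, 0, 137), (false, 39, 0, 65), (false, 39, 0, 166), (false, 39, 1, 1), (false, 39, 1, 7), (false, 40, 2, 118), (false, 40, 2, 61), (false, 40, 2, 87), (false, 40, 2, 90), (false, 30, 3, 10), (false, 30, 3, 9), (false, 30, 3, 72), (false, 30, 3, 71), (false, 30, 3, 109), (false, 30, 3, 147), (false, 30, 3, 108)] 0 (ones 243) = true :=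
  by decide +kernel

theorem done_j0 : doneC.JustS Cfsg.Agent.L43.A1.π 0 (ones 243) :=
  TC.cover_step Cfsg.Agent.L43.A1.spec done_s (TC.justS_zero 0) done_c0_0

theorem done_c1_0 : doneC.coverC Cfsg.Agent.L43.A1.act 1 true [(2, 0), (1, 0), (13, 0), (7, 0), (39, 4), (30, 1)] [(true, 1, 0, 0), (false, 9, 3, 6), (false, 9, 3, 5), (false, 9, 3, 23), (false, 9, 3, 66), (false, 9, 3, 96), (false, 9, 3, 174), (false, 9, 4, 22), (false, 9, 4, 70), (false, 9, 4, 159), (false, 9, 4, 203), (false, 10, 4, 30), (false, 10, 4, 142), (false, 10, 4, 124), (false, 10, 5, 58), (false, 10, 5, 151), (false, 10, 5, 155), (false, 10, 5, 186), (false, 10, 5, 208), (false, 10, 5, 214), (false, 39, 3, 145), (false, 39, 3, 90), (false, 40, 4, 1), (false, 40, 4, 25), (false, 40, 4, 171), (false, 40, 5, 31), (false, 40, 5, 46), (false, 40, 5, 53), (false, 40, 5, 65), (false, 40, 5, 113), (false, 40, 5, 183), (false, 40, 5, 185), (false, 27, 3, 142), (false, 27, 3, 93), (false, 27,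 3, 22), (false, 27, 3, 11), (false, 27, 3, 43), (false, 27, 3, 199), (false, 27, 3, 82), (false, 27, 3, 41), (false, 27, 3, 83)] 0 (ones 243) = true :=
  by decide +kernel

theorem done_j1 : doneC.JustS Cfsg.Agent.L43.A1.π 1 (ones 243) :=
  TC.cover_step Cfsg.Agent.L43.A1.spec done_s (TC.justS_zero 1) done_c1_0

theorem done_c2_0 : doneC.coverC Cfsg.Agent.L43.A1.act 2 true [(8, 1), (3, 0), (15, 1), (33, 0), (34, 1), (36, 0), (37, 1)] [(true, 2, 0, 0), (false, 6, 0, 82), (false, 6, 0, 145), (false, 6, 0, 226), (false, 9, 2, 239), (false, 10, 0, 230), (false, 10, 0, 232), (false, 27, 0, 140), (false, 27, 0, 116), (false, 27, 0, 135), (false, 27, 0, 181), (false, 27, 0, 191), (false, 27, 0, 233), (false, 27, 0, 235), (false, 27, 0, 237), (false, 30, 0, 62)] 0 (ones 243) = true :=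
  by decide +kernel

theorem done_j2 : doneC.JustS Cfsg.Agent.L43.A1.π 2 (ones 243) :=
  TC.cover_step Cfsg.Agent.L43.A1.spec done_s (TC.justS_zero 2) done_c2_0

theorem done_c3_0 : doneC.coverC Cfsg.Agent.L43.A1.act 3 true [(8, 0), (4, 0), (16, 0), (33, 2), (34, 3), (36, 2), (37, 3)] [(true, 3, 0, 0), (false, 7, 1, 66), (false, 7, 1, 128), (false, 7, 1, 233), (false, 7, 1, 176), (false, 9, 5, 49), (false, 9, 5, 115), (false, 9, 5, 136), (false, 9, 5, 176), (false, 9, 5, 182), (false, 9, 5, 234), (false, 9, 5, 238), (false, 30, 4, 80), (false, 30, 4, 79), (false, 30, 4, 31)] 0 (ones 243) = true :=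
  by decide +kernel

theorem done_j3 : doneC.JustS Cfsg.Agent.L43.A1.π 3 (ones 243) :=
  TC.cover_step Cfsg.Agent.L43.A1.spec done_s (TC.justS_zero 3) done_c3_0

theorem done_c4_0 : doneC.coverC Cfsg.Agent.L43.A1.act 4 true [(14, 0), (12, 0), (15, 0), (16, 1), (18, 0), (18, 2), (21, 0), (21, 2)] [(true, 4, 0, 0), (false, 13, 1, 3), (false, 13, 1, 7), (false, 13, 1, 8), (false, 13, 1, 44), (false, 13, 1, 34), (false, 13, 1, 96), (false, 13, 1, 157), (false, 13, 1, 153), (false, 13, 1, 168), (false, 13, 1, 164)] 0 (ones 243) = true :=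
  by decide +kernel

theorem done_j4 : doneC.JustS Cfsg.Agent.L43.A1.π 4 (ones 243) :=
  TC.cover_step Cfsg.Agent.L43.A1.spec done_s (TC.justS_zero 4) done_c4_0

theorem done_c5_0 : doneC.coverC Cfsg.Agent.L43.A1.act 5 true [(17, 1), (18, 1), (24, 0), (25, 1), (27, 5)] [(false, 33, 1, 111), (false, 34, 0, 136), (false, 34, 0, 116), (false, 34, 0, 73), (false, 34, 0, 145), (false, 39, 2, 112), (false, 39, 2, 184), (false, 39, 2, 238), (false, 39, 2, 180), (false, 39, 2, 182), (false, 39, 2, 234)] 0 (ones 243) = true :=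
  by decide +kernel

theorem done_j5 : doneC.JustS Cfsg.Agent.L43.A1.π 5 (ones 243) :=
  TC.cover_step Cfsg.Agent.L43.A1.spec done_s (TC.justS_zero 5) done_c5_0

theorem done_c6_0 : doneC.coverC Cfsg.Agent.L43.A1.act 6 true [(17, 0), (18, 3), (24, 2), (25, 3)] [(false, 33, 3, 17), (false, 33, 3, 27), (false, 33, 3, 53), (false, 33, 3, 65), (false, 33, 3, 145), (false, 34, 2, 18), (false, 34, 2, 69), (false, 34, 2, 119), (false, 34, 2, 76), (false, 34, 2, 143), (false, 34, 2, 176), (false, 40, 0, 32), (false, 40, 0, 48)] 0 (ones 243) = true :=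
  by decide +kernel

theorem done_j6 : doneC.JustS Cfsg.Agent.L43.A1.π 6 (ones 243) :=
  TC.cover_step Cfsg.Agent.L43.A1.spec done_s (TC.justS_zero 6) done_c6_0

theorem done_c7_0 : doneC.coverC Cfsg.Agent.L43.A1.act 7 true [(23, 1), (21, 1), (24, 1), (25, 0)] [(false, 36, 1, 12), (false, 36, 1, 62), (false, 36, 1, 82), (false, 36, 1, 38), (false, 36, 1, 98), (false, 36, 1, 121), (false, 36, 1, 144), (false, 37, 0, 30), (false, 37, 0, 55), (false, 37, 0, 97), (false, 37, 0, 226), (false, 37, 0, 165)] 0 (ones 243) = true :=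
  by decide +kernel

theorem done_j7 : doneC.JustS Cfsg.Agent.L43.A1.π 7 (ones 243) :=
  TC.cover_step Cfsg.Agent.L43.A1.spec done_s (TC.justS_zero 7) done_c7_0

theorem done_c8_0 : doneC.coverC Cfsg.Agent.L43.A1.act 8 true [(23, 0), (21, 3), (24, 3), (25, 2), (30, 6), (30, 8)] [] 0 (ones 243) = true :=
  by decide +kernel

theorem done_j8 : doneC.JustS Cfsg.Agent.L43.A1.π 8 (ones 243) :=
  TC.cover_step Cfsg.Agent.L43.A1.spec done_s (TC.justS_zero 8) done_c8_0

theorem done : doneC.Done Cfsg.Agent.L43.A1.π :=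
  TC.done_of Cfsg.Agent.L43.A1.spec sat done_s ⟨done_j0, done_j1, done_j2, done_j3, done_j4, done_j5, done_j6, done_j7, done_j8, trivial⟩

end A1

theorem iA1 : Impl Cfsg.Agent.L43.PK Cfsg.Agent.L43.PH [[0], [1], [2], [3], [4]] :=
  impl_of_subC (P := Cfsg.Agent.L43.PK) (c1 := [(42, 0), (42, 0), (42, 0), (42, 0), (42, 0)]) (c2 := [(0, 0), (3, 0), (6, 0), (9, 0), (12, 0), (15, 0)]) (by decide +kernel)

theorem bK : Bound Cfsg.Agent.L43.PK 11664 :=
  A1.done.bound' bH iA1 ⟨inSub_of_mem (by decide), inSub_of_mem (by decide), inSub_of_mem (by decide), inSub_of_mem (by decide), inSub_of_mem (by decide), trivial⟩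

end Cfsg.Agent.L43
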