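import Cfsg.Agent.L43.Ex

/-! The symplectic module of a centraliser of shape `3^{1+4} : SL₂(3)`. -/

set_option autoImplicit false
set_option maxRecDepth 100000
set_option synthInstance.maxHeartbeats 400000
set_option synthInstance.maxSize 4000

namespace Cfsg.Agent.L43

open Subgroup Cfsg Cfsg.Agent.PLocal Cfsg.Agent.PLocal.Amb Cfsg.Agent.Loc3
open Cfsg.Agent.G23.Am (M2 card_pow one_of_sq mem_of_sq le_of_three mf2)
open Cfsg.Agent.He5 (inv_self)
open scoped commutatorElement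

theorem lin {W : Type*} [AddCommGroup W] (w3 : ∀ w : W, 3 • w = 0) {ω : W →+ W →+ ZMod 3}
    {σ ν ρ : Module.End ℤ W} (alt : ∀ x, ω x x = 0) (oσ : ∀ x y, ω (σ x) (σ y) = ω x y)
    (oν : ∀ x y, ω (ν x) (ν y) = ω x y) (oρ : ∀ x y, ω (ρ x) (ρ y) = -ω x y)
    (n2 : ∀ x, ν (ν x) = -x) (c3 : ∀ x, σ (ν (σ (ν (σ (ν x))))) = x) (r2 : ∀ x, ρ (ρ x) = x)
    (rσ : ∀ x, σ (ρ (σ x)) = ρ x) (rν : ∀ x, ρ (ν x) = -ν (ρ x)) {v c a : W} (σv : σ v = v)
    (ρv : ρ v = v) (q : ∀ x, ∃ k : ℤ, σ (σ x - x) - (σ x - x) = k • v) (hc : ω c v ≠ 0)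
    (ha : σ a - a = v) (av : ω a v = 0) : σ (ν v) = ν v - v ∧ ω (ν v) v = 0 ∧ ∃ b, σ b = b ∧ ρ b = b ∧
      σ (ν b) = ν b - b ∧ ω (ν b) b = 0 ∧ ω v b = 0 ∧ ω v (ν b) ≠ 0 := by
  have sk : ∀ x y, ω y x = -ω x y := fun x y => by
    have := alt (x + y)
    simp only [map_add, AddMonoidHom.add_apply, alt] at this
    linear_combination this
  have fx : ∀ x w, σ w = w → ω (σ x - x) w = 0 := fun x w e => by
    rw [map_sub, AddMonoidHom.sub_apply, ← oσ x w, e, sub_self]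
  have q1 : ∀ x, ω x v ≠ 0 → σ (σ x - x) = σ x - x := fun x e => by
    obtain ⟨k, f⟩ := q x
    have g := oσ x (σ x - x)
    rw [sub_eq_iff_eq_add.1 f, show σ x = x + (σ x - x) by abel] at g
    simp only [map_add, AddMonoidHom.add_apply, add_sub_cancel_left, alt, map_zsmul, fx x v σv] at g
    have : (k : ZMod 3) = 0 := by
      rw [zsmul_eq_mul] at g
      exact (mul_eq_zero.1 (by linear_combination g)).resolve_right e
    obtain ⟨j, rfl⟩ := (ZMod.intCast_zmod_eq_zero_iff_dvd k 3).1 this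
    rwa [mul_comm, mul_smul, natCast_zsmul, w3, smul_zero, sub_eq_zero] at f
  have q2 : ∀ x, σ (σ x - x) = σ x - x := fun x => by
    by_cases e : ω x v = 0
    · have := q1 (x + c) (by simpa [e] using hc)
      rw [map_add, add_sub_add_comm, map_add, q1 c hc] at this
      exact add_right_cancel this
    · exact q1 x e
  have two : ∀ x : W, x + x = 0 → x = 0 := fun x e => by
    have := w3 x
    rwa [show 3 • x = x + x + x by abel, e, zero_add] at this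
  have k : ∀ w, σ w = w → σ (ν w) = ν w - w := fun w e => by
    obtain ⟨u, f⟩ : ∃ u, σ (ν w) = ν w + u := ⟨σ (ν w) - ν w, by abel⟩
    have g := c3 (-ν w)
    have g1 := q2 (ν w)
    have g2 := q2 (ν u)
    simp only [map_neg, n2, neg_neg, e, f, map_add, add_sub_cancel_left] at g g1
    replace g : σ (ν u) = w - ν w := by rw [← sub_eq_zero, ← sub_eq_zero.2 g]; abel
    simp only [g, map_sub, e, f] at g2
    have g3 : ν (u + w) = u + w := by rw [map_add, ← sub_eq_zero, ← sub_eq_zero.2 g2]; abel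
    have g4 := n2 (u + w)
    rw [g3, g3] at g4
    rw [f, ← sub_eq_zero, ← two _ (eq_neg_iff_add_eq_zero.1 g4)]
    abel
  have kv := k v σv
  have f0 : ∀ w, σ w = w → ω v w = 0 := fun w e => ha ▸ fx a w e
  have vv : ω (ν v) v = 0 := by
    have := f0 (ν v + a) (by rw [map_add, kv, sub_eq_iff_eq_add.1 ha]; abel)
    rw [map_add, sk a, av, sk] at this
    simpa using this
  have sy : ∀ x y, ω (ν x) y = ω (ν y) x := fun x y => by rw [← oν, n2, map_neg, sk]; simp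
  obtain ⟨w, e1, e2⟩ : ∃ w, σ w = w ∧ ω (ν w) v ≠ 0 := ⟨σ c - c, q2 c, by
    have := oσ (ν v + v) c
    rw [map_add, kv, σv, sub_add_cancel] at this
    rw [sy, map_sub, this]
    simpa [sk c] using hc⟩
  obtain ⟨x, e3, e4, e5⟩ : ∃ w, σ w = w ∧ ρ w = w ∧ ω (ν w) v ≠ 0 := ⟨w + ρ w, by
    have := rσ w
    rw [e1] at this
    rw [map_add, e1, this], by rw [map_add, r2, add_comm], by
    have := oρ (ν w) v
    rw [rν, ρv, map_neg, AddMonoidHom.neg_apply, neg_inj] at this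
    rw [map_add, map_add, AddMonoidHom.add_apply, this]
    revert e2
    generalize ω (ν w) v = k
    revert k
    decide⟩
  obtain ⟨j, e6⟩ := (by decide : ∀ a b : ZMod 3, a ≠ 0 → ∃ j : Fin 3, b + j.1 • a + j.1 • a = 0) _
    (ω (ν x) x) e5
  have e7 : σ (x + j.1 • v) = x + j.1 • v := by rw [map_add, map_nsmul, e3, σv]
  refine ⟨kv, vv, x + j.1 • v, e7, by rw [map_add, map_nsmul, e4, ρv], k _ e7, ?_, f0 _ e7, ?_⟩
  · simp only [map_add, map_nsmul, AddMonoidHom.add_apply, AddMonoidHom.nsmul_apply, vv, sy v x]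
    simpa using e6
  · simpa [map_add, map_nsmul, sk _ v, vv] using e5

variable {G : Type*} [Group G]

theorem zp [Finite G] {z u : G} (z3 : z ^ 3 = 1) (hu : u ∈ zpowers z) (u1 : u ≠ 1) :
    zpowers u = zpowers z := by
  rcases (mem_zpowers_three z3).1 hu with e | rfl | rfl
  exacts [absurd e u1, rfl, zpowers_inv]

namespace Ex0

variable {z : G} {Q : Subgroup G} {π : G → M2} (h : Ex0 z Q π) {a b c e g p q x y v w n t : G}
include h

theorem cZ' (hq : q ∈ Q) (hx : x ∈ zpowers z) : Commute q x := by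
  obtain ⟨k, rfl⟩ := hx
  exact (h.cz hq).zpow_right k

theorem cml (hp : p ∈ Q) (hq : q ∈ Q) (hv : v ∈ Q) : ⁅p * q, v⁆ = ⁅p, v⁆ * ⁅q, v⁆ := by
  rw [← (h.cZ' (h.ZQ (h.cm hp hv)) (h.cm hq hv)).symm.eq, ← conj_of_comm (h.cZ' hp (h.cm hq hv))]
  simp only [commutatorElement_def]
  group

/-- commutation with a fixed element -/
def fc (hv : v ∈ Q) : Q →* G := MonoidHom.mk' (fun q => ⁅q.1, v⁆) fun p q => h.cml p.2 q.2 hv

theorem sh : SecHyp 𝐍[zpowers z] Q (zpowers z) :=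
  ⟨h.ZQ, commutator_le.2 fun _ a _ b => h.cm a b, h.nQ, le_rfl⟩

variable [Finite G]

theorem dec (hc : c ∈ Q) (hv : v ∈ Q) (n : ¬ Commute c v) (hq : q ∈ Q) :
    ∃ u ∈ zpowers c, Commute (q * u) v := by
  obtain ⟨k, e⟩ := (zp h.z3 (h.cm hc hv) (mt commutatorElement_eq_one_iff_commute.1 n)).ge
    (inv_mem (h.cm hq hv))
  refine ⟨c ^ k, zpow_mem (mem_zpowers c) k, commutatorElement_eq_one_iff_commute.1 ?_⟩
  rw [h.cml hq (zpow_mem hc k) hv, ← mul_inv_cancel ⁅q, v⁆, ← e]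
  exact congrArg _ (map_zpow (h.fc hv) ⟨c, hc⟩ k)

theorem exc (v1 : v ∉ zpowers z) : ∃ c ∈ Q, ¬ Commute c v := by
  by_contra! a
  exact v1 (h.cen v fun q b => (a q b).symm)

theorem exc' (hv : v ∈ Q) (v1 : v ∉ zpowers z) (hx : x ∈ zpowers z) :
    ∃ c ∈ Q, c * v * c⁻¹ = v * x := by
  obtain ⟨c, a, b⟩ := h.exc v1
  obtain ⟨k, e⟩ := (zp h.z3 (h.cm a hv) (mt commutatorElement_eq_one_iff_commute.1 b)).ge hx
  refine ⟨c ^ k, zpow_mem a k, ?_⟩
  rw [(h.cZ' hv hx).eq, ← e, ← mul_inv_eq_iff_eq_mul]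
  exact map_zpow (h.fc hv) ⟨c, a⟩ k

theorem zz (hv : v ∈ Q) (v1 : v ∉ zpowers z) (he : e ∈ Q)
    (c : ∀ d ∈ Q, Commute d v → Commute d e) : ∃ u ∈ zpowers v, e * u ∈ zpowers z := by
  obtain ⟨x, a, b⟩ := h.exc v1
  obtain ⟨u, ⟨k, rfl⟩, d⟩ := h.dec hv a (mt Commute.symm b) he
  refine ⟨_, ⟨k, rfl⟩, h.cen _ fun q hq => ?_⟩
  obtain ⟨u, ⟨l, rfl⟩, f⟩ := h.dec a hv b hq
  simpa using ((c _ (mul_mem hq (zpow_mem a l)) f).mul_right (f.zpow_right k)).symm.mul_right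
    (d.zpow_right l).inv_right

theorem nab (hv : v ∈ Q) (v1 : v ∉ zpowers z) :
    ∃ p ∈ Q, ∃ q ∈ Q, Commute p v ∧ Commute q v ∧ ¬ Commute p q := by
  by_contra! f
  obtain ⟨x, a, b⟩ := h.exc v1
  have m : ∀ {g k : G}, k ∈ Q → g ∈ zpowers k → ∃ i : Fin 3, g = k ^ i.1 := fun a b => by
    rcases (mem_zpowers_three (h.ex a)).1 b with rfl | rfl | rfl
    exacts [⟨0, by simp⟩, ⟨1, by simp⟩, ⟨2, by simp [inv_eq_sq (h.ex a), pow_two]⟩]
  have := Nat.card_le_card_of_surjective (fun i : Fin 3 × Fin 3 × Fin 3 => (⟨z ^ i.1.1 * (v ^ i.2.1.1)⁻¹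
    * (x ^ i.2.2.1)⁻¹, mul_mem (mul_mem (pow_mem h.zQ _) (inv_mem (pow_mem hv _)))
      (inv_mem (pow_mem a _))⟩ : Q)) fun ⟨q, hq⟩ => by
    obtain ⟨u, c, d⟩ := h.dec a hv b hq
    have e := mul_mem hq (zpowers_le.2 a c)
    obtain ⟨w, i, j⟩ := h.zz hv v1 e fun p k l => f p k _ e l d
    obtain ⟨i1, rfl⟩ := m a c
    obtain ⟨i2, rfl⟩ := m hv i
    obtain ⟨i3, k⟩ := m h.zQ j
    exact ⟨(i3, i2, i1), Subtype.ext (by simp only; rw [← k]; group)⟩
  simp [h.cQ] at this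

theorem exists_om : ∃ ω : Sec h.sh →+ Sec h.sh →+ ZMod 3,
    (∀ {p q}, p ∈ Q → q ∈ Q → (ω (Sec.pr h.sh p) (Sec.pr h.sh q) = 0 ↔ Commute p q)) ∧
    (∀ g x y, Commute g.1 z → ω (Sec.rep h.sh g x) (Sec.rep h.sh g y) = ω x y) ∧
    ∀ g x y, g.1 * z * g.1⁻¹ = z⁻¹ → ω (Sec.rep h.sh g x) (Sec.rep h.sh g y) = -ω x y := by
  have := Fact.mk Nat.prime_three
  let e : zpowers z ≃* Multiplicative (ZMod 3) := mulEquivOfPrimeCardEq h.cZ (by simp)
  let f : Q → Q → ZMod 3 := fun p q => (e ⟨_, h.cm p.2 q.2⟩).toAdd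
  have f0 : ∀ p q, f p q = 0 ↔ Commute p.1 q.1 := fun p q => by
    simp [f, Subtype.ext_iff, commutatorElement_eq_one_iff_commute]
  have f1 : ∀ p q w, f (p * q) w = f p w + f q w := fun p q w => by
    simp only [f, ← toAdd_mul, ← map_mul]
    exact congrArg (fun x => (e x).toAdd) (Subtype.ext (h.cml p.2 q.2 w.2))
  have f2 : ∀ p q, f q p = -f p q := fun p q => by
    simp only [f, ← toAdd_inv, ← map_inv]
    exact congrArg (fun x => (e x).toAdd) (Subtype.ext (commutatorElement_inv _ _).symm)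
  have f3 : ∀ p q w, Sec.mk h.sh p = Sec.mk h.sh q → f p w = f q w := fun p q w a => by
    have := f1 p (p⁻¹ * q) w
    rwa [mul_inv_cancel_left, (f0 (p⁻¹ * q) w).2 (h.cZ' w.2 ((Sec.mk_eq_mk _).1 a)).symm, add_zero,
      eq_comm] at this
  choose o ho using Sec.mk_surjective h.sh
  have f4 : ∀ x y w, f (o (x + y)) w = f (o x) w + f (o y) w := fun x y w => by
    rw [← f1, f3 _ (o x * o y) w (by rw [Sec.mk_mul, ho, ho, ho])]
  let ω : Sec h.sh →+ Sec h.sh →+ ZMod 3 := AddMonoidHom.mk' (fun x => AddMonoidHom.mk'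
    (fun y => f (o x) (o y)) fun y w => by rw [f2, f4, f2 _ (o x), f2 _ (o x), neg_add])
    fun x y => AddMonoidHom.ext fun w => f4 x y _
  have f5 : ∀ p q, ω (Sec.mk h.sh p) (Sec.mk h.sh q) = f p q := fun p q => by
    change f _ _ = _
    rw [f3 _ p _ (ho _), f2, f3 _ q _ (ho _), ← f2]
  have f6 : ∀ g p q, ω (Sec.rep h.sh g (Sec.mk h.sh p)) (Sec.rep h.sh g (Sec.mk h.sh q)) =
      (e ⟨g * ⁅p.1, q.1⁆ * g.1⁻¹, conj_mem_of_mem_normalizer g.2 (h.cm p.2 q.2)⟩).toAdd :=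
    fun g p q => (f5 (Sec.conjU _ g p) (Sec.conjU _ g q)).trans
      (congrArg (fun x => (e x).toAdd) (Subtype.ext (conjugate_commutatorElement _ _ _).symm))
  refine ⟨ω, fun a b => by rw [Sec.pr_of_mem _ a, Sec.pr_of_mem _ b, f5, f0], fun g x y a => ?_,
    fun g x y a => ?_⟩ <;> obtain ⟨p, rfl⟩ := Sec.mk_surjective _ x <;>
    obtain ⟨q, rfl⟩ := Sec.mk_surjective _ y <;> rw [f6, f5] <;>
    obtain ⟨k, b⟩ := h.cm p.2 q.2
  · exact congrArg (fun x => (e x).toAdd) (Subtype.ext (conj_of_comm (b ▸ a.zpow_right k)))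
  · simp only [f, ← toAdd_inv, ← map_inv]
    exact congrArg (fun x => (e x).toAdd) (Subtype.ext (by
      simp only [← b, coe_inv]; rw [← conj_zpow, a, inv_zpow]))

end Ex0

end Cfsg.Agent.L43
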