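import Cfsg.Agent.L43.Chart

/-! Automorphisms of the chart, basic fusion and the second Weyl element. -/

set_option autoImplicit false
set_option maxRecDepth 100000
set_option synthInstance.maxHeartbeats 400000
set_option synthInstance.maxSize 4000

namespace Cfsg.Agent.L43

open Subgroup Cfsg Cfsg.Agent.PLocal Cfsg.Agent.PLocal.Amb Cfsg.Agent.Loc3 Cfsg.Agent.Comp
open Cfsg.Agent.G23.Am (M2 card_pow one_of_sq mem_of_sq cjk card_seg seg_le)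
open Cfsg.Agent.He5 (inv_self)
open Cfsg.Agent.X32 (TG)
open Cfsg.Agent.X32.TG Cfsg.Agent.LES Cfsg.Agent.Loc3.Pr
open scoped commutatorElement

variable {G : Type*} [Group G] {φ : K →* G}

instance bdCent (k x : K) {b : Bool} [h : X32.BD (Commute k x) b] :
    X32.BD (k ∈ centralizer ({x} : Set K)) b :=
  ⟨h.h.trans mem_cent.symm⟩

instance bdInf (k : K) (U W : Subgroup K) {b c : Bool} [X32.BD (k ∈ U) b] [X32.BD (k ∈ W) c] :
    X32.BD (k ∈ U ⊓ W) (and' b c) := X32.BD.instAnd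

theorem exists_aut {y v b : K} (h : (∀ k ∈ List.range PK.inv.length,
    tup [N, N⁻¹, y, y⁻¹, R, v, v⁻¹, b, b⁻¹] (PK.I k) * tup [N, N⁻¹, y, y⁻¹, R, v, v⁻¹, b, b⁻¹] k = 1) ∧
    ∀ r ∈ PK.rels, BN.ev (tup [N, N⁻¹, y, y⁻¹, R, v, v⁻¹, b, b⁻¹]) r = 1) {z a c : K}
    (e : a = N * v * N⁻¹ ∧ c = N⁻¹ * b * N ∧ z = ⁅v, c⁆) :
    ∃ α : K →* K, α Z = z ∧ α V = v ∧ α A = a ∧ α B = b ∧ α C = c ∧ α Y = y ∧ α T = T ∧ α R = R ∧
      α S = S := by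
  obtain ⟨rfl, rfl, rfl⟩ := e
  obtain ⟨α, e⟩ := link_hom linkK (sat_tup (l := [N, N⁻¹, y, y⁻¹, R, v, v⁻¹, b, b⁻¹]) le_rfl h.1 h.2)
  have eN : α N = N := by simpa [tup, lK] using e [0]
  have eV : α V = v := by simpa [tup, lK] using e [5]
  have eB : α B = b := by simpa [tup, lK] using e [7]
  have eR : α R = R := by simpa [tup, lK] using e [4]
  have eC : α C = N⁻¹ * b * N := by rw [(bd! : C = N⁻¹ * B * N), map_mul, map_mul, map_inv, eN, eB]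
  have eT : α T = T := by rw [(bd! : T = N * N), map_mul, eN]
  exact ⟨α, by rw [(bd! : Z = ⁅V, C⁆), map_commutatorElement, eV, eC], eV,
    by rw [← cjk (bd! : N * V * N⁻¹ = A), eN, eV], eB, eC, by simpa [tup, lK] using e [2], eT, eR,
    by rw [(bd! : S = T * R), map_mul, eT, eR]⟩

/-- conjugation in terms of the chart -/
def Cj (φ : K →* G) (g : G) (a b : K) : Prop := g * φ a * g⁻¹ = φ b

namespace Cj

variable {g g' : G} {a b c d : K}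

theorem mul (h : Cj φ g a b) (h' : Cj φ g c d) : Cj φ g (a * c) (b * d) := by
  rw [Cj, map_mul, map_mul, ← conj_mul, h, h']

theorem inv (h : Cj φ g a b) : Cj φ g a⁻¹ b⁻¹ := by rw [Cj, map_inv, map_inv, ← conj_inv, h]

theorem comp (h : Cj φ g a b) (h' : Cj φ g' b c) : Cj φ (g' * g) a c := by
  rw [Cj, ← h', ← h]; group

theorem symm (h : Cj φ g a b) : Cj φ g⁻¹ b a := by rw [Cj, ← h]; group

theorem of {k : K} (e : k * a * k⁻¹ = b) : Cj φ (φ k) a b := cjk e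

theorem cong (h : Cj φ g a b) (e : a = c ∧ b = d) : Cj φ g c d := e.1 ▸ e.2 ▸ h

theorem comm (h : Cj φ g a a) : Commute g (φ a) := comm_of_conj h

theorem of_comm (h : Commute g (φ a)) : Cj φ g a a := conj_of_comm h

theorem isConj (h : Cj φ g a b) : IsConj (φ a) (φ b) := isConj_iff.2 ⟨g, h⟩

theorem cj (h : Cj φ g a b) (h' : Cj φ g c d) {k : K} (e : k * a * k⁻¹ = c) :
    Cj φ (g * φ k * g⁻¹) b d := (h.symm.comp (of e)).comp h' |>.cong ⟨rfl, rfl⟩ |> fun x => by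
  simpa only [mul_assoc] using x

theorem cc (h : Cj φ g a b) {k : K} (e : Commute k a) : Commute (g * φ k * g⁻¹) (φ b) :=
  (h.cj h (conj_of_comm e)).comm

end Cj

/-- the second Weyl element -/
structure Wy (φ : K →* G) (m : G) : Prop where
  z : Cj φ m Z V
  v : Cj φ m V Z⁻¹
  a : Cj φ m A A
  t : Cj φ m T R
  r : Cj φ m R T
  sq : m * m = φ S

namespace Ch

variable (h : Ch φ) {g : G} {a b k : K}
include h

theorem ne1 (e : k ≠ 1) : φ k ≠ 1 := fun a => e (h.inj (a.trans (map_one φ).symm))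

theorem cm (c : Commute (φ a) (φ b)) : Commute a b := h.inj (by simpa using c.eq)

theorem eq (c : Cj φ (φ k) a b) : k * a * k⁻¹ = b := h.inj ((cjk rfl).symm.trans c)

theorem cd (U : Subgroup K) : Nat.card (U.map φ) = Nat.card U := Subgroup.card_map_of_injective h.inj

theorem cdr : Nat.card φ.range = 11664 := by
  rw [← Nat.card_congr (MonoidHom.ofInjective h.inj).toEquiv, TG.card]; rfl

theorem z3 : φ Z ^ 3 = 1 := by rw [← map_pow, (bd! : Z ^ 3 = 1), map_one]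

theorem nzp (e : k ∉ [1, Z, Z⁻¹]) : φ k ∉ zpowers (φ Z) := fun a => e (by
  rcases (mem_zpowers_three h.z3).1 a with a | a | a
  exacts [by simp [h.inj (a.trans (map_one φ).symm)], by simp [h.inj a],
    by simp [h.inj (a.trans (map_inv φ Z).symm)]])

variable [Finite G]

theorem rz (e : Cj φ g Z Z ∨ Cj φ g Z Z⁻¹) : ∃ k, φ k = g :=
  h.nz g ((mem_norm_three h.z3 (h.ne1 bd!)).2 (e.imp id fun a => a.trans (map_inv φ Z)))

theorem cz (e : Commute g (φ Z)) : ∃ k, φ k = g := h.rz (Or.inl (Cj.of_comm e))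

theorem rz' (e : Cj φ g Z k) (hk : k ∈ sZ) : ∃ k, φ k = g := by
  rcases (bd! : ∀ k ∈ sZ, k = 1 ∨ k = Z ∨ k = Z⁻¹) k hk with rfl | rfl | rfl
  exacts [absurd (conj_eq_one_iff.1 (e.trans (map_one φ))) (h.ne1 bd!), h.rz (Or.inl e), h.rz (Or.inr e)]

theorem aut {α : K →* K} (hz : α Z = Z ∨ α Z = Z⁻¹) (hq : ∀ k ∈ [Z, V, A, B, C], α k ∈ sQ)
    (cv : IsConj (φ Z) (φ (α V))) : Ch (φ.comp α) := by
  have i : Function.Injective α := inj_of (by rcases hz with e | e <;> rw [e] <;> exact bd!)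
  have zz : zpowers (φ (α Z)) = zpowers (φ Z) := by rcases hz with e | e <;> simp [e]
  obtain ⟨π, x⟩ := h.ex
  have q : sQ.map α = sQ := eq_of_le_of_card_ge (map_le_iff_le_comap.2 (seg_le (by
    simpa only [List.forall_mem_cons, mem_comap, map_inv, inv_mem_iff] using hq)))
    (Subgroup.card_map_of_injective i).ge
  refine ⟨h.inj.comp i, fun g a => ?_, ⟨π, ?_⟩, IsConj.trans ?_ cv⟩
  · obtain ⟨k, rfl⟩ := h.nz g (zz ▸ a)
    obtain ⟨k, rfl⟩ := Finite.injective_iff_surjective.1 i k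
    exact ⟨k, rfl⟩
  · rw [← map_map, q]
    exact x.of_mem (zz.le (mem_zpowers _)) (h.ne1 ((map_ne_one_iff α i).2 bd!))
  · rcases hz with e | e <;> rw [MonoidHom.comp_apply, e]
    exact (Cj.of (bd! : R * Z⁻¹ * R⁻¹ = Z)).isConj

theorem nS (a : g ∈ 𝐍[sS.map φ]) : g ∈ φ.range := by
  obtain ⟨k, b, c⟩ := conj_mem_of_mem_normalizer a (mem_map_of_mem φ (bd! : Z ∈ sS))
  have d : ∀ s ∈ sS, Commute k s := fun s hs => h.cm (by
    obtain ⟨l, e, f⟩ := inv_conj_mem_of_mem_normalizer a (mem_map_of_mem φ hs)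
    simpa [c, f, mul_assoc] using Commute.cj (((bd! : ∀ l ∈ sS, Commute Z l) l e).map φ) g)
  exact h.rz' c.symm ((bd! : ∀ k ∈ sS, Commute k A → Commute k C → Commute k Y → k ∈ sZ) k b
    (d _ bd!) (d _ bd!) (d _ bd!))

theorem pg {U : Subgroup K} (a : U ≤ sS) : IsPGroup 3 (U.map φ) :=
  (IsPGroup.of_card (n := 6) (by rw [h.cd, card_seg (by decide)]; rfl)).to_le (map_mono a)

theorem syl : IsSyl 3 (sS.map φ) ⊤ := isSyl_of_isSyl_normalizer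
  ((isSyl_of_not_dvd_relIndex (h.pg le_rfl) (map_le_range φ _) (by
    rw [X32.relIndex_of_card (map_le_range φ _) (a := 729) (b := 16)
      (by rw [h.cd, card_seg (by decide)]) h.cdr]
    decide)).mono (le_inf le_top le_normalizer) fun g a => h.nS a.2)

theorem nW (hk : k ∈ [V * B, V * B⁻¹]) : ¬ IsConj (φ Z) (φ k) := fun c => by
  obtain ⟨π, x⟩ := h.ex
  obtain ⟨Q', π', x'⟩ := x.of_conj c
  obtain ⟨a1, a2, a3, a4⟩ := (bd! : ∀ w ∈ [V * B, V * B⁻¹], w ∈ sQ ∧ w ∉ [1, Z, Z⁻¹] ∧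
    (∀ y, Commute y Z → Commute y w → y ∈ sS) ∧
    ∀ y ∈ sS, Commute y w → ∀ a ∈ sQ, Commute a w → ⁅y, a⁆ ≠ w ∧ ⁅y, a⁆ ≠ w⁻¹) k hk
  obtain ⟨-, -, y, a, -, -, -, -, -, -, -, -, yQ, yz, -, -, -, ⟨a, aQ, rfl⟩, aQ', ya⟩ :=
    x.exy x' (mem_map_of_mem φ a1) (h.nzp a2)
  obtain ⟨y, rfl⟩ := h.cz yz
  have yk := h.cm (x'.cz yQ)
  obtain ⟨b1, b2⟩ := a4 y (a3 y (h.cm yz) yk) yk a aQ (h.cm (x'.cz aQ'))
  rcases (mem_zpowers_three x'.z3).1 (x'.cm yQ aQ') with e | e | e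
  exacts [ya (commutatorElement_eq_one_iff_commute.1 e), b1 (h.inj (by simpa using e)),
    b2 (h.inj (by simpa using e))]

theorem sig : Sig (closure {φ Z, φ V}) := fun U c n => by
  obtain ⟨π, x⟩ := h.ex
  have f : ∀ {z Q π v u}, Ex z Q π → v ∈ Q → v ∈ 𝐍[U] → u ∈ U → Commute u z → Commute u v :=
    fun {z Q π v u} x a b d e => (commutatorElement_eq_one_iff_commute.1
      (eq_one_of_isPGroup_of_coprime x.pQ (x := ⁅v, u⁆) (by
        simpa only [commutatorElement_def, mul_assoc] using mul_mem a (x.cj e (inv_mem a)))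
        (c.coprime_dvd_left (U.orderOf_dvd_natCard (mul_mem
          (conj_mem_of_mem_normalizer b d) (inv_mem d)))))).symm
  have f1 : ∀ u ∈ U, Commute u (φ Z) → u = 1 := fun u a b => by
    have d := f x (mem_map_of_mem φ (bd! : V ∈ sQ)) (n mem_r) a b
    obtain ⟨k, rfl⟩ := h.cz b
    exact eq_one_of_isPGroup_of_coprime (h.pg le_rfl) (mem_map_of_mem φ ((bd! : ∀ k, Commute k Z →
      Commute k V → k ∈ sS) k (h.cm b) (h.cm d)))
      (c.coprime_dvd_left (U.orderOf_dvd_natCard a))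
  have f2 : ∀ w k, k * V * k⁻¹ = w ∧ w ∈ sQ ∧ w ∉ [1, Z, Z⁻¹] → ∀ u ∈ U, Commute u (φ w) → u = 1 :=
    fun w k a u b d => by
      obtain ⟨Q', π', x'⟩ := x.of_conj (h.cv.trans (Cj.of a.1).isConj)
      exact f1 u b (f x' (x.zmem x' (mem_map_of_mem φ a.2.1) (h.nzp a.2.2)).1 (n mem_l) b d)
  refine le_bot_iff.1 (le_of_four h.z3 (by rw [← map_pow, (bd! : V ^ 3 = 1), map_one])
    ((bd! : Commute Z V).map φ) (h.ne1 bd!) (fun a => h.nzp (k := V) bd! ((zp (by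
      rw [← map_pow, (bd! : V ^ 3 = 1), map_one]) a (h.ne1 bd!)).ge (mem_zpowers _))) (n mem_l) (n mem_r) c ?_)
  simp only [← map_inv, ← map_mul]
  rintro u a (b | b | b | b)
  exacts [f1 u a b, f2 _ 1 bd! u a b, f2 _ (e 162) bd! u a b, f2 _ (e 810) bd! u a b]

theorem exWy : ∃ m, Wy φ m ∧ ∃ y ∈ [Y, Y * Z, Y * Z⁻¹], Cj φ m B y := by
  obtain ⟨π, x⟩ := h.ex
  obtain ⟨Q', π', x'⟩ := x.of_conj h.cv
  obtain ⟨a1, a2⟩ := x.zmem x' (mem_map_of_mem φ (bd! : V ∈ sQ)) (h.nzp bd!)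
  obtain ⟨c, c1, c2⟩ := x'.exc' a1 a2 (mem_zpowers _)
  have c3 : Cj φ c Z (Z * V) := c2.trans (map_mul φ Z V).symm
  have c4 := Cj.of_comm (x'.cz c1)
  obtain ⟨m, z, v⟩ : ∃ m, Cj φ m Z V ∧ Cj φ m V Z⁻¹ := ⟨_,
    ((Cj.of (bd! : C * Z * C⁻¹ = Z)).comp c3).comp (Cj.of (bd! : C * (Z * V) * C⁻¹ = V)),
    ((Cj.of (bd! : C * V * C⁻¹ = Z⁻¹ * V)).comp (c3.inv.mul c4)).comp (Cj.of bd!)⟩
  have sq : ∀ {m k l}, φ l = m * φ k * m⁻¹ → k * k = 1 → l * l = 1 := fun a b => h.inj (by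
    rw [map_mul, a, conj_mul, ← map_mul, b]; simp)
  have d1 := (v.inv.cj v (bd! : T * V⁻¹ * T⁻¹ = V)).cong ⟨inv_inv Z, rfl⟩
  obtain ⟨k, e1⟩ := h.rz (Or.inr d1)
  obtain ⟨w, -, w1, w2, w3⟩ := (bd! : ∀ k, k * k = 1 → k * Z * k⁻¹ = Z⁻¹ → Commute k V → ∃ w ∈ es [0, 1, 2,
    9, 10, 11, 18, 19, 20, 243, 244, 245, 252, 253, 254, 261, 262, 263, 486, 487, 488, 495, 496, 497,
    504, 505, 506], w * k * w⁻¹ = R ∧ w * V * w⁻¹ = V ∧ w * Z⁻¹ * w⁻¹ = Z⁻¹) k (sq e1 bd!)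
    (h.eq (e1 ▸ d1)) (h.cm (e1 ▸ z.cc bd!))
  replace z := z.comp (Cj.of w2)
  replace v := v.comp (Cj.of w3)
  have t := (show Cj φ m T k from e1.symm).comp (Cj.of w1)
  generalize φ w * m = m at z v t
  have d2 := v.cc (bd! : Commute R V)
  rw [map_inv, Commute.inv_right_iff] at d2
  obtain ⟨k, e2⟩ := h.cz d2
  obtain ⟨w, -, w1, w2, w3, w4⟩ := (bd! : ∀ k, k * k = 1 → Commute k Z → k * V * k⁻¹ = V⁻¹ → Commute k R →
    ∃ w ∈ es [0, 3, 6, 27, 30, 33, 54, 57, 60], w * k * w⁻¹ = T ∧ w * V * w⁻¹ = V ∧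
      w * Z⁻¹ * w⁻¹ = Z⁻¹ ∧ w * R * w⁻¹ = R) k (sq e2 bd!) (h.cm (e2 ▸ d2))
    (h.eq (e2 ▸ z.cj z.inv bd!)) (h.cm (e2 ▸ t.cc bd!))
  replace z := z.comp (Cj.of w2)
  replace v := v.comp (Cj.of w3)
  replace t := t.comp (Cj.of w4)
  have r := (show Cj φ m R k from e2.symm).comp (Cj.of w1)
  generalize φ w * m = m at z v t r
  have v' := v.inv.cong ⟨rfl, inv_inv Z⟩
  obtain ⟨k, e3⟩ := h.rz (Or.inr (z.comp v))
  obtain rfl := (bd! : ∀ k, Commute k T → Commute k R → k * Z * k⁻¹ = Z⁻¹ → k * V * k⁻¹ = V⁻¹ → k = S) k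
    (h.cm (e3 ▸ (t.comp r).comm)) (h.cm (e3 ▸ (r.comp t).comm)) (h.eq (e3 ▸ z.comp v))
    (h.eq (e3 ▸ v.comp z.inv))
  obtain ⟨k, e4⟩ := h.cz (v'.cc (k := A) bd!)
  have a : Cj φ m A A := by
    rcases (bd! : ∀ k, Commute k Z → Commute k V → Commute k (R * T) → k = 1 ∨ k = A ∨ k = A⁻¹) k
      (h.cm (e4 ▸ v'.cc bd!)) (h.cm (e4 ▸ z.cc bd!)) (h.cm (e4 ▸ (t.mul r).cc bd!)) with rfl | rfl | rfl
    · exact absurd (conj_eq_one_iff.1 (e4.symm.trans (map_one φ))) (h.ne1 bd!)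
    · exact e4.symm
    have u1 := z.comp (Cj.of (bd! : C * V * C⁻¹ = Z⁻¹ * V))
    have u2 := v.comp (Cj.of (bd! : C * Z⁻¹ * C⁻¹ = Z⁻¹))
    have u3 := (show Cj φ m A A⁻¹ from e4.symm).comp (Cj.of (bd! : C * A⁻¹ * C⁻¹ = A⁻¹))
    have u4 := (u1.comp (u1.inv.mul u2)).comp (u2.inv.cong (bd! : V⁻¹ = (Z⁻¹ * V)⁻¹ * Z⁻¹ ∧ Z⁻¹⁻¹ = Z))
    have u5 := (u2.comp u1.inv).comp ((u1.inv.mul u2).inv.cong (bd! : _ ∧ ((Z⁻¹ * V)⁻¹ * Z⁻¹)⁻¹ = V))
    obtain ⟨l, e5⟩ := h.cz u4.comm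
    exact absurd (h.eq (e5 ▸ (u3.comp u3.inv).comp (u3.cong ⟨(inv_inv A).symm, rfl⟩)))
      ((bd! : ∀ k, Commute k Z → Commute k V → k * A * k⁻¹ ≠ A⁻¹) l (h.cm (e5 ▸ u4.comm))
        (h.cm (e5 ▸ u5.comm)))
  obtain ⟨l, e6⟩ := h.cz (v'.cc (k := B) bd!)
  refine ⟨m, ⟨z, v, a, t, r, e3.symm⟩, l, (bd! : ∀ k, Commute k Z → Commute k V → Commute k T →
    A * k * A⁻¹ * k⁻¹ = V → k ∈ [Y, Y * Z, Y * Z⁻¹]) l (h.cm (e6 ▸ v'.cc bd!)) (h.cm (e6 ▸ z.cc bd!))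
    (h.cm (e6 ▸ r.cc bd!)) (h.inj ?_), e6.symm⟩
  have b : Cj φ m B l := e6.symm
  exact Eq.trans (Eq.symm (((a.mul b).mul a.inv).mul b.inv)) (z.cong (bd! : Z = A * B * A⁻¹ * B⁻¹ ∧ V = V))

end Ch

end Cfsg.Agent.L43
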